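import Mathlib
import Cfsg.Agent.Prune
set_option linter.all false
prune_inst 0x7f00000000000000000000000000000000000000000000000000000000000000000000000000000000000000000000000000000000000000000000000000000000000000000000000000000000000000003fffffffffffffffffffffffffffbeffbdffffffff

/-!
# Unipotent elements fixed by coprime automorphisms and isolated from the `p`-subgroups

* `Iso ℓ u` : `u` centralises every `p`-subgroup (`p ≠ 2, ℓ`) which it normalises;
* `UF ℓ K` : every coprime group of automorphisms of `K` fixes an `ℓ`-element `u ≠ 1` with `Iso ℓ u`;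
-/

set_option autoImplicit false

namespace Cfsg.Agent.H25.UFDef

open Subgroup

universe u v

/-- `u` centralises every `p`-subgroup (`p ≠ 2, ℓ`) which it normalises -/
def Iso (ℓ : ℕ) {K : Type*} [Group K] (u : K) : Prop :=
  ∀ p : ℕ, p.Prime → p ≠ 2 → p ≠ ℓ → ∀ P : Subgroup K, IsPGroup p P → (∀ g ∈ P, u * g * u⁻¹ ∈ P) →
    ∀ g ∈ P, u * g = g * u

/-- every coprime group of automorphisms fixes an isolated `ℓ`-element -/
def UF (ℓ : ℕ) (K : Type*) [Group K] : Prop :=
  ∀ A : Subgroup (MulAut K), (Nat.card A).Coprime (Nat.card K) →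
    ∃ u : K, u ≠ 1 ∧ (∃ k : ℕ, u ^ ℓ ^ k = 1) ∧ (∀ a ∈ A, a u = u) ∧ Iso ℓ u

end Cfsg.Agent.H25.UFDef
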