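import Cfsg.Agent.Lib.PGroupCoprimeAction
import Cfsg.Agent.H21.QDLie
import Cfsg.Agent.S5063
import Cfsg.Agent.PLocal.ChiefReduction
import Cfsg.Prelude.Def_LocalEven
import Cfsg.Agent.H35.Cubic2
import Cfsg.Agent.H26.UFChev
import Cfsg.Agent.H531.FMOrth
import Cfsg.Agent.Schreier.TwESix
import Cfsg.Prelude.Def_LieTypeChar
import Cfsg.Agent.FastGrp
import Cfsg.Agent.Prune
set_option linter.all false

section
prune_inst 0x7ffdeefbbbf86ddfffff7fffaedddffdfdfd7fffe6fffdfbffe861ffabdf6b0ac9c7fbad6fe812fe1ed6603c14f87b13fdffc23fe36bdc7ffffd5ff41ffbfe1fedffb52d71f5ac3e1ffc6ffe9bf0778e7f3fffffffffffffffffffffffffffbeffbfffffffff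

-- part: H25/S30Inv
section
prune_inst 0x1100440490000000800051200002020280001900020400159e00542080e5363000529017cd01e1219f82ab0404ec020005000c94010000020008e00401c012004a920e0a13c1c0031001640f887180c00000000000000000000000000041004000000000
set_option linter.all false
open scoped Cfsg.Agent.FastGrp

/-!
# Elements lying in all invariant Sylow subgroups

`R` an `r`-group normalising `H`, `r ∤ |H|`. `InAll p R H g` : `g` lies in every `R`-invariant subgroup of `H` of
index prime to `p`.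

* `InAll.of_sylow`, `InAll.map`, `InAll.sub` : equivalence with the Sylow version, images, subgroups;
* `star` : the same for the simple factors: an element of `InAll` goes to every Sylow `p`-subgroup of the simple quotient
  `K` of `H` which is invariant under the elements of `R` acting on `K`.
-/

set_option autoImplicit false

namespace Cfsg.Agent.H25.S30

open Subgroup

/-- `g` lies in every `R`-invariant subgroup of `H` of index prime to `p`. -/
def InAll {X : Type*} [Group X] (p : ℕ) (R H : Subgroup X) (g : X) : Prop :=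
  ∀ T : Subgroup X, T ≤ H → (∀ a ∈ R, ∀ t ∈ T, a * t * a⁻¹ ∈ T) → ¬ p ∣ T.relIndex H → g ∈ T

section Ambient

variable {X : Type*} [Group X] {p : ℕ} {R H : Subgroup X} {g : X}

theorem InAll.mem (h : InAll p R H g) (hp : p ≠ 1) (hn : ∀ a ∈ R, ∀ t ∈ H, a * t * a⁻¹ ∈ H) : g ∈ H :=
  h H le_rfl hn (by rw [relIndex_self]; exact fun hd => hp (Nat.dvd_one.1 hd))

theorem InAll.map {Y : Type*} [Group Y] (f : X →* Y) (hn : ∀ a ∈ R, ∀ t ∈ H, a * t * a⁻¹ ∈ H)
    (h : InAll p R H g) : InAll p (R.map f) (H.map f) (f g) := by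
  intro T hT hinv hp
  have h1 : g ∈ T.comap f ⊓ H := by
    refine h _ inf_le_right ?_ ?_
    · rintro a ha t ⟨ht, htH⟩
      refine ⟨?_, hn a ha t htH⟩
      change f (a * t * a⁻¹) ∈ T
      rw [map_mul, map_mul, map_inv]
      exact hinv _ ⟨a, ha, rfl⟩ _ ht
    · rwa [inf_relIndex_right, relIndex_comap]
  exact h1.1

/-- a Sylow subgroup of a subgroup of index prime to `p` is a Sylow subgroup -/
theorem sylow_up [Finite X] [hp : Fact p.Prime] {S T H : Subgroup X} (hTH : T ≤ H) (hT : ¬ p ∣ T.relIndex H)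
    (hS : ∃ P : Sylow p T, (P : Subgroup T).map T.subtype = S) :
    ∃ P : Sylow p H, (P : Subgroup H).map H.subtype = S := by
  obtain ⟨P, hP⟩ := hS
  have hST : S ≤ T := by rw [← hP]; exact map_subtype_le _
  have hSH : S ≤ H := hST.trans hTH
  have hSp : IsPGroup p S := by rw [← hP]; exact P.isPGroup'.map _
  have h1 : ¬ p ∣ S.relIndex T := by
    have h2 : S.subgroupOf T = P := by
      rw [← hP]
      exact comap_map_eq_self_of_injective T.subtype_injective _
    rw [relIndex, h2]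
    exact P.not_dvd_index
  have h2 : ¬ p ∣ (S.subgroupOf H).index := by
    change ¬ p ∣ S.relIndex H
    rw [← relIndex_mul_relIndex S T H hST hTH]
    intro hd
    rcases (Nat.Prime.dvd_mul hp.out).1 hd with h3 | h3
    · exact h1 h3
    · exact hT h3
  have h3 : IsPGroup p (S.subgroupOf H) := hSp.comap_of_injective _ H.subtype_injective
  refine ⟨h3.toSylow h2, ?_⟩
  change (S.subgroupOf H).map H.subtype = S
  rw [subgroupOf_map_subtype, inf_eq_left]
  exact hSH

theorem not_dvd_relIndex_sylow [Finite X] [hp : Fact p.Prime] {S H : Subgroup X}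
    (hS : ∃ P : Sylow p H, (P : Subgroup H).map H.subtype = S) : S ≤ H ∧ ¬ p ∣ S.relIndex H := by
  obtain ⟨P, rfl⟩ := hS
  refine ⟨map_subtype_le _, ?_⟩
  have h2 : ((P : Subgroup H).map H.subtype).subgroupOf H = P :=
    comap_map_eq_self_of_injective H.subtype_injective _
  rw [relIndex, h2]
  exact P.not_dvd_index

theorem InAll.mem_sylow [Finite X] [hp : Fact p.Prime] (h : InAll p R H g) {S : Subgroup X}
    (hS : ∃ P : Sylow p H, (P : Subgroup H).map H.subtype = S) (hinv : ∀ a ∈ R, ∀ t ∈ S, a * t * a⁻¹ ∈ S) :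
    g ∈ S :=
  h S (not_dvd_relIndex_sylow hS).1 hinv (not_dvd_relIndex_sylow hS).2

theorem InAll.of_sylow [Finite X] [hp : Fact p.Prime] {r : ℕ} [Fact r.Prime] (hR : IsPGroup r R)
    (hr : ¬ r ∣ Nat.card H)
    (hg : ∀ S : Subgroup X, (∃ P : Sylow p H, (P : Subgroup H).map H.subtype = S) →
      (∀ a ∈ R, ∀ t ∈ S, a * t * a⁻¹ ∈ S) → g ∈ S) : InAll p R H g := by
  intro T hTH hTinv hT
  have hrT : ¬ r ∣ Nat.card T := fun hd => hr (hd.trans (card_dvd_of_le hTH))
  obtain ⟨S, hS, hSinv⟩ := Lib.PGroupCoprimeAction.exists_invariant_sylow hR hrT hTinv p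
  have h1 := hg S (sylow_up hTH hT hS) hSinv
  obtain ⟨P, rfl⟩ := hS
  exact map_subtype_le _ h1

theorem InAll.sub [Finite X] [hp : Fact p.Prime] {r : ℕ} [Fact r.Prime] (hR : IsPGroup r R)
    (hr : ¬ r ∣ Nat.card H) (hn : ∀ a ∈ R, ∀ t ∈ H, a * t * a⁻¹ ∈ H) (h : InAll p R H g) {H₁ : Subgroup X}
    (hH₁ : H₁ ≤ H) (hg : g ∈ H₁) : InAll p R H₁ g := by
  refine InAll.of_sylow hR (fun hd => hr (hd.trans (card_dvd_of_le hH₁))) ?_
  intro S hS hSinv
  obtain ⟨P, rfl⟩ := hS
  obtain ⟨S', hS', hinv', hle⟩ := Lib.PGroupCoprimeAction.exists_invariant_sylow_ge hR hr hn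
    ((map_subtype_le _).trans hH₁) (P.isPGroup'.map H₁.subtype) hSinv
  have h1 : g ∈ S' := h.mem_sylow hS' hinv'
  obtain ⟨P', rfl⟩ := hS'
  have h2 : IsPGroup p (((P' : Subgroup H).map H.subtype).subgroupOf H₁) :=
    (P'.isPGroup'.map H.subtype).comap_of_injective _ H₁.subtype_injective
  have h3 : (P : Subgroup H₁) ≤ ((P' : Subgroup H).map H.subtype).subgroupOf H₁ := by
    intro x hx
    rw [mem_subgroupOf]
    exact hle ⟨x, hx, rfl⟩
  have h4 := P.is_maximal' h2 h3
  refine ⟨⟨g, hg⟩, ?_, rfl⟩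
  have h5 : (⟨g, hg⟩ : H₁) ∈ ((P' : Subgroup H).map H.subtype).subgroupOf H₁ := by
    rw [mem_subgroupOf]
    exact h1
  rw [h4] at h5
  exact h5

end Ambient

section Star

variable {H : Type*} [Group H] {K : Type*} [Group K]

/-- kernels of maps onto nonabelian simple groups are prime -/
theorem prime_ker [IsSimpleGroup K] (hna : ∃ a b : K, a * b ≠ b * a) {ψ : H →* K} (hψ : Function.Surjective ψ)
    {M N : Subgroup H} (hM : M.Normal) (hN : N.Normal) (h : M ⊓ N ≤ ψ.ker) : M ≤ ψ.ker ∨ N ≤ ψ.ker := by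
  have hM' : (M.map ψ).Normal := hM.map ψ hψ
  have hN' : (N.map ψ).Normal := hN.map ψ hψ
  rcases hM'.eq_bot_or_eq_top with h1 | h1
  · left
    exact (Subgroup.map_eq_bot_iff M).1 h1
  rcases hN'.eq_bot_or_eq_top with h2 | h2
  · right
    exact (Subgroup.map_eq_bot_iff N).1 h2
  exfalso
  obtain ⟨a, b, hab⟩ := hna
  apply hab
  have h3 : ⁅M, N⁆.map ψ = ⊥ := by
    rw [Subgroup.map_eq_bot_iff]
    exact (commutator_le_inf M N).trans h
  rw [map_commutator, h1, h2] at h3
  have h4 : a * b * a⁻¹ * b⁻¹ ∈ ⁅(⊤ : Subgroup K), (⊤ : Subgroup K)⁆ :=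
    commutator_mem_commutator (mem_top a) (mem_top b)
  rw [h3, mem_bot, mul_inv_eq_one, mul_inv_eq_iff_eq_mul] at h4
  exact h4

theorem prime_iInf [IsSimpleGroup K] (hna : ∃ a b : K, a * b ≠ b * a) {ψ : H →* K} (hψ : Function.Surjective ψ)
    {ι : Type*} (J : Finset ι) (N : ι → Subgroup H) (hN : ∀ i, (N i).Normal)
    (h : ∀ i ∈ J, ¬ N i ≤ ψ.ker) : ¬ (⨅ i ∈ J, N i) ≤ ψ.ker := by
  classical
  induction J using Finset.induction_on with
  | empty =>
    intro hc
    simp only [Finset.notMem_empty, iInf_false, iInf_top] at hc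
    obtain ⟨a, b, hab⟩ := hna
    obtain ⟨a, rfl⟩ := hψ a
    have h1 : ψ a = 1 := hc (mem_top a)
    rw [h1, one_mul, mul_one] at hab
    exact hab rfl
  | insert b J hb ih =>
    intro hc
    rw [Finset.iInf_insert] at hc
    have hn : (⨅ i ∈ J, N i).Normal := normal_iInf_normal fun i => normal_iInf_normal fun _ => hN i
    rcases prime_ker hna hψ (hN b) hn hc with h1 | h1
    · exact h b (Finset.mem_insert_self b J) h1
    · exact ih (fun i hi => h i (Finset.mem_insert_of_mem hi)) h1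

/-- **Invariant subgroups of index prime to `p` from a simple factor.** -/
theorem star {A : Type*} [Group A] [Finite A] [MulDistribMulAction A H] {p : ℕ} [hp : Fact p.Prime]
    [IsSimpleGroup K] (hna : ∃ a b : K, a * b ≠ b * a) (φ : H →* K) (hφ : Function.Surjective φ) {Q : Subgroup K}
    (hQ : ¬ p ∣ Q.index)
    (hinv : ∀ a : A, (∀ h : H, φ h = 1 → φ (a • h) = 1) → ∀ h : H, φ h ∈ Q → φ (a • h) ∈ Q) :
    ∃ T : Subgroup H, (∀ a : A, ∀ t ∈ T, a • t ∈ T) ∧ ¬ p ∣ T.index ∧ ∀ t ∈ T, φ t ∈ Q := by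
  classical
  have : Fintype A := Fintype.ofFinite A
  let ψ : A → (H →* K) := fun a => φ.comp (MulDistribMulAction.toMonoidHom H a⁻¹)
  have hψ : ∀ (a : A) (h : H), ψ a h = φ (a⁻¹ • h) := fun a h => rfl
  have hψs : ∀ a : A, Function.Surjective (ψ a) := by
    intro a k
    obtain ⟨h, rfl⟩ := hφ k
    exact ⟨a • h, by rw [hψ, inv_smul_smul]⟩
  have hstep : ∀ J : Finset A, ¬ p ∣ (⨅ a ∈ J, Q.comap (ψ a)).index := by
    intro J
    induction J using Finset.induction_on with
    | empty =>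
      simp only [Finset.notMem_empty, iInf_false, iInf_top, index_top]
      exact fun hd => hp.out.one_lt.ne' (Nat.dvd_one.1 hd)
    | insert b J hb ih =>
      rw [Finset.iInf_insert]
      by_cases hc : ∃ a ∈ J, (ψ a).ker ≤ (ψ b).ker
      · obtain ⟨a, haJ, hab⟩ := hc
        have h1 : Q.comap (ψ a) ≤ Q.comap (ψ b) := by
          intro h hh
          have h2 := hinv (b⁻¹ * a) (fun k hk => by
            have h3 : a • k ∈ (ψ a).ker := by
              rw [MonoidHom.mem_ker, hψ, inv_smul_smul]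
              exact hk
            have h4 := hab h3
            rw [MonoidHom.mem_ker, hψ, ← mul_smul] at h4
            exact h4) (a⁻¹ • h) hh
          rw [← mul_smul, mul_assoc, mul_inv_cancel, mul_one] at h2
          exact h2
        have h2 : (⨅ a ∈ J, Q.comap (ψ a)) ≤ Q.comap (ψ b) := (iInf₂_le a haJ).trans h1
        rwa [inf_eq_right.2 h2]
      · push Not at hc
        have h1 := prime_iInf hna (hψs b) J (fun a => (ψ a).ker) (fun a => inferInstance) hc
        have h2 : (⨅ a ∈ J, (ψ a).ker) ≤ ⨅ a ∈ J, Q.comap (ψ a) := by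
          refine iInf₂_mono fun a _ => ?_
          intro h hh
          rw [mem_comap, MonoidHom.mem_ker.1 hh]
          exact one_mem Q
        have hn : (⨅ a ∈ J, (ψ a).ker).Normal :=
          normal_iInf_normal fun i => normal_iInf_normal fun _ => inferInstance
        have h3 : (⨅ a ∈ J, (ψ a).ker).map (ψ b) = ⊤ := by
          have hn' := hn.map (ψ b) (hψs b)
          rcases hn'.eq_bot_or_eq_top with h4 | h4
          · exact absurd ((Subgroup.map_eq_bot_iff _).1 h4) h1
          · exact h4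
        have h4 : (⨅ a ∈ J, Q.comap (ψ a)).map (ψ b) = ⊤ :=
          top_le_iff.1 (h3.symm.le.trans (map_mono h2))
        rw [inf_comm, ← relIndex_mul_index (inf_le_left : (⨅ a ∈ J, Q.comap (ψ a)) ⊓ Q.comap (ψ b) ≤ _),
          inf_relIndex_left, relIndex_comap, h4, relIndex_top_right]
        intro hd
        rcases (Nat.Prime.dvd_mul hp.out).1 hd with h5 | h5
        · exact hQ h5
        · exact ih h5
  refine ⟨⨅ a ∈ (Finset.univ : Finset A), Q.comap (ψ a), ?_, hstep _, ?_⟩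
  · intro a t ht
    simp only [Finset.mem_univ, iInf_pos, mem_iInf, mem_comap, hψ] at ht ⊢
    intro b
    have h1 := ht (a⁻¹ * b)
    rwa [mul_inv_rev, inv_inv, mul_smul] at h1
  · intro t ht
    simp only [Finset.mem_univ, iInf_pos, mem_iInf, mem_comap, hψ] at ht
    have h1 := ht 1
    rwa [inv_one, one_smul] at h1

/-- **The simple factors.** `g` lies in all invariant Sylow `p`-subgroups of `H`, `φ : H → K` onto a nonabelian simple
group: for some `r`-group `B` of automorphisms of `K` the element `φ g` lies in all `B`-invariant Sylow `p`-subgroups. -/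
theorem InAll.exists_aut {X : Type*} [Group X] [Finite X] {p r : ℕ} [hp : Fact p.Prime] {R H : Subgroup X}
    (hR : IsPGroup r R) (hn : ∀ a ∈ R, ∀ t ∈ H, a * t * a⁻¹ ∈ H) {g : X} (h : InAll p R H g) (hg : g ∈ H)
    {K : Type*} [Group K] [IsSimpleGroup K] (hna : ∃ a b : K, a * b ≠ b * a) (φ : H →* K)
    (hφ : Function.Surjective φ) :
    ∃ B : Subgroup (MulAut K), IsPGroup r B ∧ ∀ Q : Sylow p K, (∀ β ∈ B, ∀ k ∈ Q, β k ∈ Q) → φ ⟨g, hg⟩ ∈ Q := by
  let _ := Lib.PGroupCoprimeAction.conjAction R H hn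
  have hfK : Finite K := Finite.of_surjective φ hφ
  let B : Subgroup (MulAut K) :=
    { carrier := {β | ∃ a : R, ∀ h : H, β (φ h) = φ (a • h)}
      one_mem' := ⟨1, fun h => by rw [one_smul]; rfl⟩
      mul_mem' := by
        rintro β γ ⟨a, ha⟩ ⟨b, hb⟩
        refine ⟨a * b, fun h => ?_⟩
        rw [MulAut.mul_apply, hb, ha, mul_smul]
      inv_mem' := by
        rintro β ⟨a, ha⟩
        refine ⟨a⁻¹, fun h => ?_⟩
        apply β.injective
        rw [MulAut.apply_inv_self, ha, smul_inv_smul] }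
  refine ⟨B, ?_, ?_⟩
  · rintro ⟨β, a, ha⟩
    obtain ⟨n, hn'⟩ := hR a
    refine ⟨n, Subtype.ext ?_⟩
    have h1 : ∀ (k : ℕ) (h : H), (β ^ k) (φ h) = φ (a ^ k • h) := by
      intro k
      induction k with
      | zero => intro h; rw [pow_zero, pow_zero, one_smul]; rfl
      | succ k ih => intro h; rw [pow_succ, pow_succ, MulAut.mul_apply, ha, ih, mul_smul]
    change β ^ r ^ n = 1
    ext k
    obtain ⟨k, rfl⟩ := hφ k
    rw [h1, hn', one_smul]
    rfl
  · intro Q hQ
    obtain ⟨T, hT1, hT2, hT3⟩ := star (A := R) (p := p) hna φ hφ (Q := (Q : Subgroup K)) Q.not_dvd_index (by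
      intro a ha h hh
      have h1 : φ.ker ≤ (φ.comp (MulDistribMulAction.toMonoidHom H a)).ker := fun k hk => ha k hk
      let β₀ : K →* K := φ.liftOfSurjective hφ ⟨φ.comp (MulDistribMulAction.toMonoidHom H a), h1⟩
      have hβ₀ : ∀ k, β₀ (φ k) = φ (a • k) := fun k =>
        MonoidHom.liftOfRightInverse_comp_apply φ _ (Function.rightInverse_surjInv hφ)
          ⟨φ.comp (MulDistribMulAction.toMonoidHom H a), h1⟩ k
      have hs : Function.Surjective β₀ := by
        intro k
        obtain ⟨k, rfl⟩ := hφ k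
        exact ⟨φ (a⁻¹ • k), by rw [hβ₀, smul_inv_smul]⟩
      have hb : Function.Bijective β₀ := ⟨Finite.injective_iff_surjective.2 hs, hs⟩
      have h2 := hQ (MulEquiv.ofBijective β₀ hb) ⟨a, fun k => hβ₀ k⟩ _ hh
      rw [← hβ₀]
      exact h2)
    have h1 : g ∈ T.map H.subtype := by
      refine h _ (map_subtype_le _) ?_ ?_
      · rintro a ha _ ⟨t, ht, rfl⟩
        exact ⟨_, hT1 ⟨a, ha⟩ t ht, rfl⟩
      · have h2 : (T.map H.subtype).subgroupOf H = T := comap_map_eq_self_of_injective H.subtype_injective _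
        rwa [relIndex, h2]
    obtain ⟨t, ht, htg⟩ := h1
    have h2 : t = ⟨g, hg⟩ := Subtype.ext htg
    rw [← h2]
    exact hT3 t ht

end Star

end Cfsg.Agent.H25.S30
end

-- part: H25/S30Lin
section
prune_inst 0x1000040590000000000000200000000280001000000000010400400000f10600041200174c0081008180810000400200380008002200000000084000000012004a0004081080000000006000002000000000000000000000000000000041004000000000
set_option linter.all false
open scoped Cfsg.Agent.FastGrp

/-!
# From an irreducible module to a quasisimple linear group containing the quadratic element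

* `lin_qd` : `N` irreducible on `M`, generated by quadratic elements, `g ∈ N` quadratic: a `QD` datum for a simple quotient
  of `N` (by S5063);
* `exists_qd` : `V` irreducible for `H ⊔ R`, `g ∈ H` quadratic and in all `R`-invariant Sylow `p`-subgroups.
-/

set_option autoImplicit false

namespace Cfsg.Agent.H25.S30

open Subgroup

section

variable {p : ℕ} [hp : Fact p.Prime]

theorem central_eq_one {N : Type*} [Group N] {M : Type*} [AddCommGroup M] [Module (ZMod p) M] [Finite M]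
    (σ : N →* Module.End (ZMod p) M) (hne : ∃ m : M, m ≠ 0)
    (hirr : ∀ W : Submodule (ZMod p) M, (∀ n, ∀ w ∈ W, σ n w ∈ W) → W = ⊥ ∨ W = ⊤) {z : Module.End (ZMod p) M}
    (hz : z ^ p = 1) (hcomm : ∀ n, z * σ n = σ n * z) : z = 1 := by
  obtain ⟨m, hm⟩ := hne
  have hnt : Nontrivial M := ⟨m, 0, hm⟩
  have hch := charP_end (p := p) (V := M)
  have h1 : (z - 1) ^ p = 0 := by
    rw [sub_pow_char_of_commute _ (Commute.one_right z), hz, one_pow, sub_self]
  rcases hirr (LinearMap.ker (z - 1)) (by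
    intro n w hw
    rw [LinearMap.mem_ker, LinearMap.sub_apply, sub_eq_zero, Module.End.one_apply] at hw ⊢
    have := congrArg (fun T : Module.End (ZMod p) M => T w) (hcomm n)
    simp only [Module.End.mul_apply] at this
    rw [this, hw]) with h2 | h2
  · exfalso
    have h3 : Function.Injective (⇑(z - 1) : M → M) := LinearMap.ker_eq_bot.1 h2
    have h4 : Function.Injective (⇑((z - 1) ^ p) : M → M) := by
      rw [Module.End.coe_pow]
      exact h3.iterate p
    rw [h1] at h4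
    exact hm (h4 (by simp))
  · ext w
    have : w ∈ LinearMap.ker (z - 1) := by rw [h2]; trivial
    rw [LinearMap.mem_ker, LinearMap.sub_apply, sub_eq_zero, Module.End.one_apply] at this
    rw [this, Module.End.one_apply]

theorem sq_zero_pow {M : Type*} [AddCommGroup M] [Module (ZMod p) M] {t : Module.End (ZMod p) M}
    (ht : (t - 1) ^ 2 = 0) (k : ℕ) : t ^ k = 1 + (k : ZMod p) • (t - 1) := by
  induction k with
  | zero => simp
  | succ k ih =>
    have h1 : (t - 1) * t = t - 1 := by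
      have h2 : (t - 1) * t = (t - 1) ^ 2 + (t - 1) := by rw [pow_two, mul_sub, mul_one]; abel
      rw [h2, ht, zero_add]
    rw [pow_succ, ih, add_mul, one_mul, smul_mul_assoc, h1, Nat.cast_succ, add_smul, one_smul]
    abel

/-- **The simple factor containing a quadratic element.** -/
theorem lin_qd (hp3 : 3 < p) {N : Type*} [Group N] [Finite N] {M : Type} [AddCommGroup M] [Module (ZMod p) M]
    [Finite M] (σ : N →* Module.End (ZMod p) M) (hne : ∃ m : M, m ≠ 0)
    (hirr : ∀ W : Submodule (ZMod p) M, (∀ n, ∀ w ∈ W, σ n w ∈ W) → W = ⊥ ∨ W = ⊤)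
    (hgen : _root_.Subgroup.closure {n : N | (σ n - 1) ^ 2 = 0} = ⊤) {g : N} (hg : (σ g - 1) ^ 2 = 0) (hg1 : σ g ≠ 1) :
    ∃ (L : Type) (_ : Group L) (K : Type) (_ : Group K) (ρ' : L →* Module.End (ZMod p) M) (π : L →* K) (l : L)
      (φ : N →* K), Finite L ∧ IsSimpleGroup K ∧ (∃ a b : K, a * b ≠ b * a) ∧ QD ρ' π l ∧
        Function.Surjective φ ∧ φ g = π l ∧ π l ≠ 1 := by
  classical
  have hfd : FiniteDimensional (ZMod p) M := Module.Finite.of_finite
  have hfE : Finite (Module.End (ZMod p) M) := Module.finite_of_finite (ZMod p)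
  have hfG : Finite (LinearMap.GeneralLinearGroup (ZMod p) M) :=
    Finite.of_injective (Units.coeHom (Module.End (ZMod p) M)) Units.val_injective
  let σu : N →* LinearMap.GeneralLinearGroup (ZMod p) M := σ.toHomUnits
  have hσu : ∀ n, ((σu n : LinearMap.GeneralLinearGroup (ZMod p) M) : Module.End (ZMod p) M) = σ n := fun n => rfl
  set G := σu.range with hG
  have hquad : ∀ n, (σ n - 1) ^ 2 = 0 → σ n ≠ 1 → σu n ∈ Cfsg.quadraticElements G := by
    intro n hn h1
    refine ⟨⟨n, rfl⟩, ⟨?_, ?_⟩, ?_⟩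
    · rw [← pow_two]
      exact hn
    · exact sub_ne_zero.2 h1
    · rintro τ ⟨c, hc⟩
      refine ⟨n ^ c.val, Units.ext ?_⟩
      rw [hσu, map_pow, sq_zero_pow hn, ZMod.natCast_zmod_val]
      exact hc.symm
  have hpair : Cfsg.IsQuadraticPair G := by
    refine ⟨⟨hne, fun W hW => hirr W fun n w hw => hW (σu n) ⟨n, rfl⟩ w hw⟩, le_antisymm ?_ ?_⟩
    · rw [closure_le]
      exact fun x hx => hx.1
    · have h0 : (_root_.Subgroup.closure {n : N | (σ n - 1) ^ 2 = 0}).map σu ≤ _root_.Subgroup.closure (Cfsg.quadraticElements G) := by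
        rw [MonoidHom.map_closure, closure_le]
        rintro _ ⟨n, hn, rfl⟩
        by_cases h1 : σ n = 1
        · have h2 : σu n = 1 := Units.ext h1
          rw [h2]
          exact one_mem _
        · exact _root_.Subgroup.subset_closure (hquad n hn h1)
      rw [hgen, ← MonoidHom.range_eq_map] at h0
      exact h0
  obtain ⟨s, Gi, hGi, hcomm, hsup, hqs, hmem⟩ := S5063.result (k := ZMod p) (M := M)
    (by rw [ZMod.ringChar_zmod_n]; omega) (by rw [Nat.card_zmod]; omega) hpair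
  have hgG := hmem (hquad g hg hg1)
  rw [Set.mem_iUnion] at hgG
  obtain ⟨i, hgi⟩ := hgG
  have hqsi := (hqs i).1
  have hle : Gi i ≤ G := (hGi i).1
  let C : Subgroup (LinearMap.GeneralLinearGroup (ZMod p) M) := centralizer (Gi i : Set _)
  let NN : Subgroup G := C.subgroupOf G
  have hNN : NN.Normal := by
    refine ⟨?_⟩
    rintro ⟨c, hcG⟩ hc ⟨x, hx⟩
    change x * c * x⁻¹ ∈ C
    rw [mem_centralizer_iff]
    intro y hy
    have h1 := (hGi i).2 x hx
    have h2 : y ∈ Cfsg.conjBy (Gi i) x := by rw [h1]; exact hy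
    obtain ⟨w, hw, rfl⟩ := h2
    have h3 : w * c = c * w := mem_centralizer_iff.1 hc w hw
    change x * w * x⁻¹ * (x * c * x⁻¹) = x * c * x⁻¹ * (x * w * x⁻¹)
    calc x * w * x⁻¹ * (x * c * x⁻¹) = x * (w * c) * x⁻¹ := by group
      _ = x * (c * w) * x⁻¹ := by rw [h3]
      _ = _ := by group
  let π : Gi i →* (G ⧸ NN) := (QuotientGroup.mk' NN).comp (inclusion hle)
  let φ : N →* (G ⧸ NN) := (QuotientGroup.mk' NN).comp σu.rangeRestrict
  have hφ : Function.Surjective φ := (QuotientGroup.mk'_surjective NN).comp σu.rangeRestrict_surjective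
  have hπ : Function.Surjective π := by
    have h1 : G ≤ (π.range.comap (QuotientGroup.mk' NN)).map G.subtype := by
      refine hsup.symm.le.trans (iSup_le fun j => ?_)
      intro x hx
      have hxG : x ∈ G := (hGi j).1 hx
      refine ⟨⟨x, hxG⟩, ?_, rfl⟩
      by_cases hij : j = i
      · subst hij
        exact ⟨⟨x, hx⟩, rfl⟩
      · have h2 : (QuotientGroup.mk' NN) (⟨x, hxG⟩ : G) = 1 := by
          rw [QuotientGroup.mk'_apply, QuotientGroup.eq_one_iff]
          change x ∈ C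
          exact (commutator_eq_bot_iff_le_centralizer.1 (hcomm j i hij)) hx
        rw [SetLike.mem_coe, mem_comap, h2]
        exact one_mem _
    intro k
    obtain ⟨x, rfl⟩ := QuotientGroup.mk'_surjective NN k
    obtain ⟨y, hy, hyx⟩ := h1 x.2
    have h2 : y = x := Subtype.ext hyx
    subst h2
    exact hy
  have hker : ∀ x : Gi i, π x = 1 ↔ (x : LinearMap.GeneralLinearGroup (ZMod p) M) ∈ C := by
    intro x
    change (QuotientGroup.mk' NN) (inclusion hle x) = 1 ↔ _
    rw [QuotientGroup.mk'_apply, QuotientGroup.eq_one_iff]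
    rfl
  have hcen : π.ker ≤ center (Gi i) := by
    intro x hx
    rw [mem_center_iff]
    intro y
    apply Subtype.ext
    exact mem_centralizer_iff.1 ((hker x).1 hx) y y.2
  have hcen' : ∀ x ∈ center (Gi i), π x = 1 := by
    intro x hx
    rw [hker, mem_centralizer_iff]
    intro y hy
    exact congrArg Subtype.val (mem_center_iff.1 hx ⟨y, hy⟩)
  let ρ' : Gi i →* Module.End (ZMod p) M := (Units.coeHom _).comp (Gi i).subtype
  have hinj : Function.Injective ρ' := Units.val_injective.comp (Gi i).subtype_injective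
  have hcop : (Nat.card π.ker).Coprime p := by
    rw [Nat.coprime_comm, Nat.Prime.coprime_iff_not_dvd hp.out]
    intro hd
    obtain ⟨z, hz⟩ := exists_prime_orderOf_dvd_card' (G := π.ker) p hd
    have hzC : ((z : Gi i) : LinearMap.GeneralLinearGroup (ZMod p) M) ∈ C := (hker z).1 z.2
    have hzG : G ≤ centralizer {((z : Gi i) : LinearMap.GeneralLinearGroup (ZMod p) M)} := by
      refine hsup.symm.le.trans (iSup_le fun j => ?_)
      intro x hx
      rw [mem_centralizer_singleton_iff]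
      by_cases hij : j = i
      · subst hij
        exact mem_centralizer_iff.1 hzC x hx
      · exact (mem_centralizer_iff.1 ((commutator_eq_bot_iff_le_centralizer.1 (hcomm j i hij)) hx) _ z.1.2).symm
    have h1 : (((z : Gi i) : LinearMap.GeneralLinearGroup (ZMod p) M) : Module.End (ZMod p) M) = 1 := by
      refine central_eq_one σ hne hirr ?_ ?_
      · have h2 : z ^ p = 1 := orderOf_dvd_iff_pow_eq_one.1 hz.dvd
        have h3 : (((z : Gi i) : LinearMap.GeneralLinearGroup (ZMod p) M)) ^ p = 1 := by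
          have := congrArg (fun y : π.ker => ((y : Gi i) : LinearMap.GeneralLinearGroup (ZMod p) M)) h2
          simpa only [_root_.SubmonoidClass.coe_pow, _root_.OneMemClass.coe_one] using this
        rw [← Units.val_pow_eq_pow_val, h3, Units.val_one]
      · intro n
        have h2 := mem_centralizer_singleton_iff.1 (hzG ⟨n, rfl⟩)
        exact (congrArg Units.val h2).symm
    have h2 : z = 1 := Subtype.ext (Subtype.ext (Units.ext h1))
    rw [h2, orderOf_one] at hz
    exact hp.out.one_lt.ne hz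
  have hqd : QD ρ' π ⟨σu g, hgi⟩ :=
    { inj := hinj
      sq := hg
      surj := hπ
      cen := hcen
      perf := hqsi.1.commutator_eq_top
      cop := hcop }
  have hl1 : π ⟨σu g, hgi⟩ ≠ 1 := by
    intro h1
    have h2 : orderOf (⟨σu g, hgi⟩ : Gi i) ∣ p := orderOf_dvd_of_pow_eq_one (pow_eq_one hinj hqd.sq)
    have h3 : orderOf (⟨σu g, hgi⟩ : Gi i) ∣ Nat.card π.ker := by
      have := _root_.orderOf_dvd_natCard (⟨⟨σu g, hgi⟩, h1⟩ : π.ker)
      rwa [← Subgroup.orderOf_coe] at this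
    have h4 := orderOf_eq_one_iff.1 (Nat.eq_one_of_dvd_coprimes hcop h3 h2)
    apply hg1
    have h5 : σu g = 1 := congrArg Subtype.val h4
    have h6 := congrArg Units.val h5
    exact h6
  have hnt : Nontrivial (G ⧸ NN) := ⟨_, _, hl1⟩
  have hsimple : IsSimpleGroup (G ⧸ NN) := by
    have h1 := hqsi.2
    refine IsSimpleGroup.isSimpleGroup_of_surjective (QuotientGroup.lift (center (Gi i)) π hcen') ?_
    intro k
    obtain ⟨x, rfl⟩ := hπ k
    exact ⟨QuotientGroup.mk x, rfl⟩
  refine ⟨Gi i, inferInstance, G ⧸ NN, inferInstance, ρ', π, ⟨σu g, hgi⟩, φ, inferInstance, hsimple, ?_, hqd, hφ,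
    rfl, hl1⟩
  by_contra hc
  push Not at hc
  have h1 : commutator (G ⧸ NN) = ⊤ := by
    rw [_root_.commutator_def, ← Subgroup.map_top_of_surjective π hπ, ← Subgroup.map_commutator,
      ← _root_.commutator_def, hqsi.1.commutator_eq_top]
  have h2 : commutator (G ⧸ NN) = ⊥ := by
    rw [_root_.commutator_def, eq_bot_iff, commutator_le]
    intro a _ b _
    rw [mem_bot, commutatorElement_def, hc a b, mul_assoc, ← mul_inv_rev, mul_inv_cancel]
  rw [h1] at h2
  exact hl1 (by
    have : π ⟨σu g, hgi⟩ ∈ (⊤ : Subgroup (G ⧸ NN)) := mem_top _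
    rwa [h2, mem_bot] at this)

/-- **From an irreducible module to the simple factors.** -/
theorem exists_qd (hp3 : 3 < p) {Γ : Type*} [Group Γ] [Finite Γ] {r : ℕ} [Fact r.Prime] {R H : Subgroup Γ}
    (hR : IsPGroup r R) (hr : ¬ r ∣ Nat.card H) (hn : ∀ a ∈ R, ∀ t ∈ H, a * t * a⁻¹ ∈ H) {V : Type}
    [AddCommGroup V] [Module (ZMod p) V] [Finite V] (ρ : Γ →* Module.End (ZMod p) V)
    (hirr : ∀ W : Submodule (ZMod p) V, (∀ γ ∈ H ⊔ R, ∀ w ∈ W, ρ γ w ∈ W) → W = ⊥ ∨ W = ⊤) {g : Γ}
    (hg : InAll p R H g) (hq : (ρ g - 1) ^ 2 = 0) (hne : ρ g ≠ 1) :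
    ∃ (M : Type) (_ : AddCommGroup M) (_ : Module (ZMod p) M) (L : Type) (_ : Group L) (K : Type) (_ : Group K)
      (ρ' : L →* Module.End (ZMod p) M) (π : L →* K) (l : L), Finite M ∧ Finite L ∧ Finite K ∧ IsSimpleGroup K ∧
        (∃ a b : K, a * b ≠ b * a) ∧ QD ρ' π l ∧ π l ≠ 1 ∧ ¬ r ∣ Nat.card K ∧
        ∃ B : Subgroup (MulAut K), IsPGroup r B ∧ ∀ Q : Sylow p K, (∀ β ∈ B, ∀ k ∈ Q, β k ∈ Q) → π l ∈ Q := by
  classical
  have hgH : g ∈ H := hg.mem hp.out.ne_one hn
  let S : Set Γ := {h | h ∈ H ∧ (ρ h - 1) ^ 2 = 0}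
  set N := closure S with hN
  have hNH : N ≤ H := by
    rw [hN, closure_le]
    exact fun x hx => hx.1
  have hgN : g ∈ N := subset_closure ⟨hgH, hq⟩
  have hHR : ∀ γ ∈ H ⊔ R, ∀ h ∈ H, γ * h * γ⁻¹ ∈ H := by
    intro γ hγ
    have h1 : H ⊔ R ≤ normalizer (H : Set Γ) := by
      refine sup_le le_normalizer ?_
      intro a ha
      rw [mem_normalizer_iff]
      intro x
      refine ⟨fun hx => hn a ha x hx, fun hx => ?_⟩
      have h2 := hn a⁻¹ (inv_mem ha) _ hx
      have h3 : a⁻¹ * (a * x * a⁻¹) * a⁻¹⁻¹ = x := by group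
      rwa [h3] at h2
    intro h hh
    exact (mem_normalizer_iff.1 (h1 hγ) h).1 hh
  have hnN : ∀ γ ∈ H ⊔ R, ∀ h ∈ N, γ * h * γ⁻¹ ∈ N := by
    intro γ hγ h hh
    have h1 : N.map (MulAut.conj γ).toMonoidHom ≤ N := by
      rw [hN, MonoidHom.map_closure, closure_le]
      rintro _ ⟨x, hx, rfl⟩
      refine subset_closure ⟨hHR γ hγ x hx.1, ?_⟩
      exact quad_conj hx.2 γ
    exact h1 ⟨h, hh, rfl⟩
  -- the minimal `N`-submodules
  let Inv : Submodule (ZMod p) V → Prop := fun M => ∀ n ∈ N, ∀ w ∈ M, ρ n w ∈ M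
  let 𝓜 : Set (Submodule (ZMod p) V) := {M | M ≠ ⊥ ∧ Inv M ∧ ∀ M' : Submodule (ZMod p) V, M' ≤ M → Inv M' →
    M' = ⊥ ∨ M' = M}
  have hmul : ∀ (γ δ : Γ) (v : V), ρ γ (ρ δ v) = ρ (γ * δ) v := by
    intro γ δ v
    rw [map_mul, Module.End.mul_apply]
  have hone : ∀ v : V, ρ 1 v = v := by
    intro v
    rw [map_one, Module.End.one_apply]
  have hInvmap : ∀ γ ∈ H ⊔ R, ∀ M, Inv M → Inv (M.map (ρ γ)) := by
    intro γ hγ M hM n hnn w hw
    obtain ⟨m, hm, rfl⟩ := hw
    refine ⟨ρ (γ⁻¹ * n * γ) m, ?_, ?_⟩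
    · have h1 := hnN γ⁻¹ (inv_mem hγ) n hnn
      rw [inv_inv] at h1
      exact hM _ h1 m hm
    · rw [hmul, hmul]
      congr 2
      group
  have hback : ∀ (γ : Γ) (M : Submodule (ZMod p) V), (M.map (ρ γ)).map (ρ γ⁻¹) = M := by
    intro γ M
    rw [← Submodule.map_comp]
    have h1 : (ρ γ⁻¹) ∘ₗ (ρ γ) = LinearMap.id := by
      ext v
      rw [LinearMap.comp_apply, hmul, inv_mul_cancel, hone, LinearMap.id_apply]
    rw [h1, Submodule.map_id]
  have hMmap : ∀ γ ∈ H ⊔ R, ∀ M ∈ 𝓜, M.map (ρ γ) ∈ 𝓜 := by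
    rintro γ hγ M ⟨h1, h2, h3⟩
    refine ⟨?_, hInvmap γ hγ M h2, ?_⟩
    · intro h4
      apply h1
      rw [← hback γ M, h4, Submodule.map_bot]
    · intro M' hM' hi
      have h4 : M'.map (ρ γ⁻¹) ≤ M := by
        rw [← hback γ M]
        exact Submodule.map_mono hM'
      have h5 := hback γ⁻¹ M'
      rw [inv_inv] at h5
      rcases h3 _ h4 (hInvmap γ⁻¹ (inv_mem hγ) M' hi) with h6 | h6
      · left
        rw [← h5, h6, Submodule.map_bot]
      · right
        rw [← h5, h6]
  have hVne : ∃ v : V, ρ g v ≠ v := by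
    by_contra hc
    push Not at hc
    exact hne (LinearMap.ext hc)
  have hMne : ∃ M, M ∈ 𝓜 := by
    have h1 : {M : Submodule (ZMod p) V | M ≠ ⊥ ∧ Inv M}.Nonempty := by
      refine ⟨⊤, ?_, fun _ _ _ _ => trivial⟩
      intro h1
      obtain ⟨v, hv⟩ := hVne
      have h2 : ∀ w : V, w = 0 := fun w => (Submodule.mem_bot (ZMod p)).1 (h1 ▸ Submodule.mem_top)
      exact hv ((h2 _).trans (h2 _).symm)
    have hfin : Finite (Submodule (ZMod p) V) := Finite.of_injective (fun M => (M : Set V)) SetLike.coe_injective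
    obtain ⟨M, hM⟩ := (Set.toFinite {M : Submodule (ZMod p) V | M ≠ ⊥ ∧ Inv M}).exists_minimal h1
    refine ⟨M, hM.1.1, hM.1.2, fun M' hM' hi => ?_⟩
    by_cases h0 : M' = ⊥
    · exact Or.inl h0
    · exact Or.inr (le_antisymm hM' (hM.2 ⟨h0, hi⟩ hM'))
  have hW : sSup 𝓜 = ⊤ := by
    rcases hirr (sSup 𝓜) (by
      intro γ hγ w hw
      have h1 : (sSup 𝓜).map (ρ γ) ≤ sSup 𝓜 := by
        rw [sSup_eq_iSup, Submodule.map_iSup]
        refine iSup_le fun M => ?_
        rw [Submodule.map_iSup]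
        refine iSup_le fun hM => ?_
        rw [← sSup_eq_iSup]
        exact le_sSup (hMmap γ hγ M hM)
      exact h1 ⟨w, hw, rfl⟩) with h1 | h1
    · exfalso
      obtain ⟨M, hM⟩ := hMne
      exact hM.1 (le_bot_iff.1 ((le_sSup hM).trans h1.le))
    · exact h1
  obtain ⟨M, hM, m, hm, hgm⟩ : ∃ M ∈ 𝓜, ∃ m ∈ M, ρ g m ≠ m := by
    by_contra hc
    push Not at hc
    obtain ⟨v, hv⟩ := hVne
    apply hv
    have h1 : sSup 𝓜 ≤ LinearMap.ker (ρ g - 1) := by
      refine sSup_le fun M hM m hm => ?_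
      rw [LinearMap.mem_ker, LinearMap.sub_apply, Module.End.one_apply, sub_eq_zero]
      exact hc M hM m hm
    have h2 : v ∈ LinearMap.ker (ρ g - 1) := h1 (by rw [hW]; trivial)
    rw [LinearMap.mem_ker, LinearMap.sub_apply, Module.End.one_apply, sub_eq_zero] at h2
    exact h2
  obtain ⟨hM0, hMi, hMm⟩ := hM
  let σ : N →* Module.End (ZMod p) M :=
    { toFun := fun n => (ρ n).restrict (hMi n n.2)
      map_one' := by
        ext w
        exact hone w
      map_mul' := by
        intro a b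
        ext w
        exact (hmul a b w).symm }
  have hσ : ∀ (n : N) (w : M), ((σ n w : M) : V) = ρ n w := fun n w => rfl
  have hσq : ∀ n : N, (ρ n - 1) ^ 2 = 0 → (σ n - 1) ^ 2 = 0 := by
    intro n hq'
    ext w
    have h1 := congrArg (fun T : Module.End (ZMod p) V => T w) hq'
    simp only [pow_two, Module.End.mul_apply, LinearMap.sub_apply, Module.End.one_apply,
      LinearMap.zero_apply] at h1 ⊢
    simpa only [hσ, _root_.map_sub, _root_.AddSubgroupClass.coe_sub, _root_.ZeroMemClass.coe_zero] using h1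
  obtain ⟨L, iL, K, iK, ρ', π, l, φ, hLf, hKs, hna, hqd, hφ, hφg, hl⟩ := lin_qd (p := p) hp3 σ
    (by
      obtain ⟨x, hx, hx0⟩ := (Submodule.ne_bot_iff M).1 hM0
      exact ⟨⟨x, hx⟩, fun h => hx0 (congrArg Subtype.val h)⟩)
    (by
      intro W hWi
      have h1 : Inv (W.map M.subtype) := by
        rintro n hnn _ ⟨w, hw, rfl⟩
        exact ⟨σ ⟨n, hnn⟩ w, hWi ⟨n, hnn⟩ w hw, rfl⟩
      rcases hMm _ (Submodule.map_subtype_le M W) h1 with h2 | h2
      · left
        rw [← Submodule.map_bot M.subtype] at h2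
        exact Submodule.map_injective_of_injective M.injective_subtype h2
      · right
        exact Submodule.map_injective_of_injective M.injective_subtype (h2.trans (Submodule.map_subtype_top M).symm))
    (by
      rw [eq_top_iff, ← closure_closure_coe_preimage (k := S)]
      refine _root_.Subgroup.closure_mono ?_
      intro n hnn
      exact hσq n hnn.2)
    (g := ⟨g, hgN⟩) (hσq _ hq)
    (by
      intro h1
      apply hgm
      have h2 := congrArg (fun T : Module.End (ZMod p) M => ((T ⟨m, hm⟩ : M) : V)) h1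
      exact h2)
  have hKf : Finite K := Finite.of_surjective φ hφ
  have hRN : ∀ a ∈ R, ∀ t ∈ N, a * t * a⁻¹ ∈ N := fun a ha => hnN a (mem_sup_right ha)
  obtain ⟨B, hB, hBQ⟩ := InAll.exists_aut (p := p) hR hRN (hg.sub hR hr hn hNH hgN) hgN hna φ hφ
  refine ⟨M, inferInstance, inferInstance, L, iL, K, iK, ρ', π, l, inferInstance, hLf, hKf, hKs, hna, hqd, hl, ?_,
    B, hB, ?_⟩
  · intro hd
    exact hr (hd.trans ((card_dvd_of_surjective φ hφ).trans (card_dvd_of_le hNH)))
  · intro Q hQ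
    rw [← hφg]
    exact hBQ Q hQ

end

end Cfsg.Agent.H25.S30
end

-- part: H25/S30Chief
section
prune_inst 0x104040482200000800051220000000280000900020400009e00542080a5342000101017cd01c1000940e904008800001cc00800238000020008c00401c0000048120e0a1181c00310016000886000000000000000000000000000000041000000000000
set_option linter.all false
open scoped Cfsg.Agent.FastGrp

/-!
# A quadratic element on a chief factor gives a linear simple factor

* `Pack p r` : the conclusion of `exists_qd`;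
* `exists_module` : an elementary abelian group as a module in `Type`;
* `chief_case` : `g` in all `R`-invariant Sylow `p`-subgroups of `H`, quadratic and nontrivial on a chief factor of `HR`.
-/

set_option autoImplicit false

namespace Cfsg.Agent.H25.S30

open Subgroup Cfsg
open scoped commutatorElement

/-- a quadratic element in a simple factor, lying in all `B`-invariant Sylow `p`-subgroups -/
def Pack (p r : ℕ) [Fact p.Prime] : Prop :=
  ∃ (M : Type) (_ : AddCommGroup M) (_ : Module (ZMod p) M) (L : Type) (_ : Group L) (K : Type) (_ : Group K)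
      (ρ' : L →* Module.End (ZMod p) M) (π : L →* K) (l : L), Finite M ∧ Finite L ∧ Finite K ∧ IsSimpleGroup K ∧
        (∃ a b : K, a * b ≠ b * a) ∧ QD ρ' π l ∧ π l ≠ 1 ∧ ¬ r ∣ Nat.card K ∧
        ∃ B : Subgroup (MulAut K), IsPGroup r B ∧ ∀ Q : Sylow p K, (∀ β ∈ B, ∀ k ∈ Q, β k ∈ Q) → π l ∈ Q

theorem exists_module {p : ℕ} [Fact p.Prime] {A : Type*} [CommGroup A] [Finite A] (hexp : ∀ a : A, a ^ p = 1)
    {E : Type*} [Group E] (φ : E →* MulAut A) :
    ∃ (V : Type) (_ : AddCommGroup V) (_ : Module (ZMod p) V) (_ : Finite V) (e : Additive A ≃+ V)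
      (ρ : E →* Module.End (ZMod p) V), ∀ (x : E) (a : A), ρ x (e (Additive.ofMul a)) = e (Additive.ofMul (φ x a)) := by
  classical
  have : Module (ZMod p) (Additive A) := AddCommGroup.zmodModule (n := p) (fun x => by
    exact hexp x.toMul)
  have hfin : Module.Finite (ZMod p) (Additive A) := Module.Finite.of_finite
  let act : E →* Module.End (ZMod p) (Additive A) :=
    { toFun := fun x => ((MonoidHom.toAdditive (φ x).toMonoidHom)).toZModLinearMap p
      map_one' := by
        refine LinearMap.ext fun v => ?_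
        change Additive.ofMul (φ 1 v.toMul) = v
        rw [map_one]
        rfl
      map_mul' := fun x y => by
        refine LinearMap.ext fun (v : Additive A) => ?_
        change Additive.ofMul (φ (x * y) v.toMul) = Additive.ofMul (φ x (φ y v.toMul))
        rw [map_mul]
        rfl }
  have hact : ∀ (x : E) (v : Additive A), act x v = Additive.ofMul (φ x v.toMul) := fun _ _ => rfl
  let b := Module.finBasis (ZMod p) (Additive A)
  let e := b.equivFun
  let ρ : E →* Module.End (ZMod p) (Fin (Module.finrank (ZMod p) (Additive A)) → ZMod p) :=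
    (e.conjRingEquiv : Module.End (ZMod p) (Additive A) →* _).comp act
  refine ⟨Fin (Module.finrank (ZMod p) (Additive A)) → ZMod p, inferInstance, inferInstance, inferInstance,
    e.toAddEquiv, ρ, ?_⟩
  intro x a
  change e (act x (e.symm (e (Additive.ofMul a)))) = e (Additive.ofMul (φ x a))
  rw [LinearEquiv.symm_apply_apply, hact]
  rfl

/-- a normal subgroup of the quotient from an invariant submodule -/
theorem chief_case {p : ℕ} [hp : Fact p.Prime] (hp3 : 3 < p) {Γ : Type*} [Group Γ] [Finite Γ] {r : ℕ} [Fact r.Prime]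
    {R H : Subgroup Γ} (hR : IsPGroup r R) (hr : ¬ r ∣ Nat.card H) (hn : ∀ a ∈ R, ∀ t ∈ H, a * t * a⁻¹ ∈ H)
    (hHR : H ⊔ R = ⊤) {U W : Subgroup Γ} (h : IsChiefFactor U W) (hU : IsPGroup p U) {g : Γ}
    (hg : InAll p R H g) (hq : ⁅⁅U, zpowers g⁆, zpowers g⁆ ≤ W) (hnt : ¬ ⁅U, zpowers g⁆ ≤ W) : Pack p r := by
  classical
  have hUn := h.2.1
  have hW := h.2.2.1
  set π := QuotientGroup.mk' W with hπ
  have hsurj : Function.Surjective π := QuotientGroup.mk'_surjective W
  set P := U.map π with hP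
  have hPn : P.Normal := hUn.map π hsurj
  have hPp : IsPGroup p P := hU.map π
  have key : ∀ X : Subgroup Γ, X ≤ W ↔ X.map π = ⊥ := by
    intro X
    rw [Subgroup.map_eq_bot_iff, hπ, QuotientGroup.ker_mk']
  have hz : (zpowers g).map π = zpowers (π g) := MonoidHom.map_zpowers π g
  have hmin : ∀ N : Subgroup (Γ ⧸ W), N.Normal → N ≤ P → N = ⊥ ∨ N = P := by
    intro N hN hNP
    have hNc : (N.comap π).Normal := hN.comap π
    have h3 : W ≤ N.comap π := by
      intro v hv
      rw [mem_comap]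
      have : π v = 1 := (QuotientGroup.eq_one_iff v).2 hv
      rw [this]; exact one_mem N
    have h4 : N.comap π ≤ U := by
      have := comap_mono (f := π) hNP
      rw [hP, comap_map_eq, hπ, QuotientGroup.ker_mk', sup_eq_left.2 h.1.le] at this
      exact this
    have h5 : (N.comap π).map π = N := map_comap_eq_self_of_surjective hsurj N
    rcases h.2.2.2 _ hNc h3 h4 with h6 | h6
    · left
      rw [← h5, h6]
      exact (key W).1 le_rfl
    · right
      rw [← h5, h6]
  obtain ⟨hab, hexp⟩ := PLocal.ChiefReduction.isElementaryAbelian_of_minimal hPn hPp hmin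
  let _ : CommGroup P := { (inferInstance : Group P) with mul_comm := fun x y => mul_comm' x y }
  let φ : Γ →* MulAut P := (MulAut.conjNormal (H := P)).comp π
  have hφ : ∀ (x : Γ) (a : P), ((φ x a : P) : Γ ⧸ W) = π x * a * (π x)⁻¹ := fun x a => rfl
  obtain ⟨V, iV1, iV2, iV3, e, ρ, hρ⟩ := exists_module (fun a : P => Subtype.ext (by simpa using hexp _ a.2)) φ
  have hρ' : ∀ (x : Γ) (a : P), ρ x (e (Additive.ofMul a)) = e (Additive.ofMul (φ x a)) := hρ
  have hsub : ∀ a b : P, e (Additive.ofMul a) - e (Additive.ofMul b) = e (Additive.ofMul (a * b⁻¹)) := by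
    intro a b
    rw [← map_sub]
    congr 1
    exact sub_eq_add_neg _ _
  have hV : ∀ v : V, ∃ a : P, v = e (Additive.ofMul a) := by
    intro v
    exact ⟨(e.symm v).toMul, by simp⟩
  -- commutators
  have hc1 : ∀ a : P, π g * (a : Γ ⧸ W) * (π g)⁻¹ * (a : Γ ⧸ W)⁻¹ ∈ ⁅P, zpowers (π g)⁆ := by
    intro a
    have h2 : ⁅(a : Γ ⧸ W), π g⁆ ∈ ⁅P, zpowers (π g)⁆ := commutator_mem_commutator a.2 (mem_zpowers _)
    have h3 := Subgroup.inv_mem _ h2
    rw [commutatorElement_inv, commutatorElement_def] at h3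
    exact h3
  have hq' : ⁅⁅P, zpowers (π g)⁆, zpowers (π g)⁆ = ⊥ := by
    rw [← hz, hP, ← map_commutator, ← map_commutator]
    exact (key _).1 hq
  refine exists_qd (p := p) hp3 hR hr hn ρ ?_ hg ?_ ?_
  · intro M hM
    let N : Subgroup (Γ ⧸ W) :=
      { carrier := {x | ∃ hx : x ∈ P, e (Additive.ofMul ⟨x, hx⟩) ∈ M}
        one_mem' := ⟨one_mem _, by
          have : e (Additive.ofMul (⟨1, one_mem _⟩ : P)) = 0 := map_zero e
          rw [this]; exact zero_mem M⟩
        mul_mem' := by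
          rintro x y ⟨hx, hx'⟩ ⟨hy, hy'⟩
          refine ⟨mul_mem hx hy, ?_⟩
          have : e (Additive.ofMul (⟨x * y, mul_mem hx hy⟩ : P)) =
              e (Additive.ofMul ⟨x, hx⟩) + e (Additive.ofMul ⟨y, hy⟩) :=
            map_add e (Additive.ofMul (⟨x, hx⟩ : P)) (Additive.ofMul ⟨y, hy⟩)
          rw [this]; exact add_mem hx' hy'
        inv_mem' := by
          rintro x ⟨hx, hx'⟩
          refine ⟨inv_mem hx, ?_⟩
          have : e (Additive.ofMul (⟨x⁻¹, inv_mem hx⟩ : P)) = - e (Additive.ofMul ⟨x, hx⟩) :=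
            map_neg e (Additive.ofMul (⟨x, hx⟩ : P))
          rw [this]; exact neg_mem hx' }
    have hNn : N.Normal := by
      refine ⟨?_⟩
      rintro x ⟨hx, hx'⟩ y
      obtain ⟨y, rfl⟩ := hsurj y
      refine ⟨hPn.conj_mem x hx _, ?_⟩
      have h1 := hM y (by rw [hHR]; trivial) _ hx'
      rw [hρ'] at h1
      exact h1
    have hNP : N ≤ P := fun x hx => hx.1
    rcases hmin N hNn hNP with h1 | h1
    · left
      rw [eq_bot_iff]
      intro v hv
      obtain ⟨a, rfl⟩ := hV v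
      have h2 : (a : Γ ⧸ W) ∈ N := ⟨a.2, hv⟩
      rw [h1, mem_bot] at h2
      have h3 : a = 1 := Subtype.ext h2
      rw [h3, Submodule.mem_bot]
      exact map_zero e
    · right
      rw [eq_top_iff]
      intro v _
      obtain ⟨a, rfl⟩ := hV v
      have h2 : (a : Γ ⧸ W) ∈ N := by rw [h1]; exact a.2
      exact h2.2
  · refine LinearMap.ext fun v => ?_
    obtain ⟨a, rfl⟩ := hV v
    rw [pow_two, Module.End.mul_apply, LinearMap.sub_apply, LinearMap.sub_apply, Module.End.one_apply,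
      Module.End.one_apply, hρ', hsub, hρ', hsub, LinearMap.zero_apply]
    have h1 : φ g (φ g a * a⁻¹) * (φ g a * a⁻¹)⁻¹ = 1 := by
      apply Subtype.ext
      have h2 := commutator_mem_commutator (hc1 a) (mem_zpowers (π g))
      rw [hq', mem_bot, commutatorElement_eq_one_iff_commute] at h2
      rw [mul_inv_eq_one.2]
      apply Subtype.ext
      rw [hφ]
      change π g * (π g * (a : Γ ⧸ W) * (π g)⁻¹ * (a : Γ ⧸ W)⁻¹) * (π g)⁻¹ =
        π g * (a : Γ ⧸ W) * (π g)⁻¹ * (a : Γ ⧸ W)⁻¹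
      rw [← h2.eq, mul_inv_cancel_right]
    rw [h1]
    exact map_zero e
  · intro h1
    apply hnt
    rw [key, map_commutator, hz, commutator_comm, commutator_eq_bot_iff_le_centralizer, zpowers_le,
      mem_centralizer_iff]
    intro x hx
    have h2 := hρ' g ⟨x, hx⟩
    rw [h1, Module.End.one_apply] at h2
    have h3 : (⟨x, hx⟩ : P) = φ g ⟨x, hx⟩ := Additive.ofMul.injective (e.injective h2)
    have h4 := congrArg Subtype.val h3
    rw [hφ] at h4
    change x = π g * x * (π g)⁻¹ at h4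
    rw [eq_mul_inv_iff_mul_eq] at h4
    exact h4

end Cfsg.Agent.H25.S30
end

-- part: H25/S30Top
section
prune_inst 0x21000040490000000000051200002000080001900020000159a00542000e5362000129014c801c1218382a100004002003dc00c00210000000000c000018012000a8000021000000200016003087180c00000000000000000000000000041004000000000
set_option linter.all false
open scoped Cfsg.Agent.FastGrp

/-!
# S1930 modulo the simple factors

* `induced_normal` : `A ≤ Aut G` an `r`-group, `r ∤ |G|`, `C_G(O_p(G)) ≤ O_p(G)`, `P` the intersection of the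
  `A`-invariant Sylow `p`-subgroups: if there is no `Pack p r`, the lower K-infinity subgroup of `P` is normal in `G`.
-/

set_option autoImplicit false

namespace Cfsg.Agent.H25.S30

open Subgroup Cfsg Cfsg.Agent.H35.KSeq Cfsg.Agent.H35.Cubic2 Cfsg.Agent.H35.Cubic
open scoped commutatorElement

universe u

theorem centralizer_le_of {Γ : Type*} [Group Γ] {p r : ℕ} [hp : Fact p.Prime] [hr : Fact r.Prime] (hpr : p ≠ r)
    {H T : Subgroup Γ} [hH : H.Normal] [hTn : T.Normal] (hT : IsPGroup p T)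
    (hHT : H ⊓ centralizer (T : Set Γ) ≤ T) (hΓ : ∀ c : Γ, ∃ n : ℕ, c ^ r ^ n ∈ H)
    (hf : ∀ y : Γ, (∃ n : ℕ, y ^ r ^ n = 1) → (∀ h ∈ H, y * h = h * y) → y = 1) :
    centralizer (T : Set Γ) ≤ T := by
  intro c hc
  obtain ⟨n, hn⟩ := hΓ c
  have h1 : c ^ r ^ n ∈ T := hHT ⟨hn, pow_mem hc _⟩
  obtain ⟨m, hm⟩ := hT ⟨_, h1⟩
  have hm' : (c ^ r ^ n) ^ p ^ m = 1 := congrArg Subtype.val hm
  have hCn : (centralizer (T : Set Γ)).Normal := normal_centralizer
  have hyc : c ^ p ^ m ∈ centralizer (T : Set Γ) := pow_mem hc _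
  have hy : c ^ p ^ m = 1 := by
    apply hf
    · exact ⟨n, by rw [← pow_mul, mul_comm, pow_mul, hm']⟩
    · intro h hh
      set y := c ^ p ^ m with hydef
      have hz1 : y * h * y⁻¹ * h⁻¹ ∈ H := mul_mem (hH.conj_mem h hh y) (inv_mem hh)
      have hz2 : y * h * y⁻¹ * h⁻¹ ∈ centralizer (T : Set Γ) := by
        have e : y * h * y⁻¹ * h⁻¹ = y * (h * y⁻¹ * h⁻¹) := by group
        rw [e]
        exact mul_mem hyc (hCn.conj_mem _ (inv_mem hyc) h)
      have hz3 : y * h * y⁻¹ * h⁻¹ ∈ T := hHT ⟨hz1, hz2⟩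
      set z := y * h * y⁻¹ * h⁻¹ with hz
      have hyz : y * z * y⁻¹ = z := by
        rw [mul_inv_eq_iff_eq_mul]
        exact (mem_centralizer_iff.1 hyc z hz3).symm
      have h2 : ∀ k : ℕ, y ^ k * h * (y ^ k)⁻¹ = z ^ k * h := by
        intro k
        induction k with
        | zero => simp
        | succ k ih =>
          have e : y ^ (k + 1) * h * (y ^ (k + 1))⁻¹ = y * (y ^ k * h * (y ^ k)⁻¹) * y⁻¹ := by
            rw [pow_succ']; group
          rw [e, ih]
          have e2 : y * (z ^ k * h) * y⁻¹ = (y * z ^ k * y⁻¹) * (y * h * y⁻¹ * h⁻¹) * h := by group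
          rw [e2, ← hz, ← conj_pow, hyz, pow_succ]
      have h3 := h2 (r ^ n)
      have h4 : y ^ r ^ n = 1 := by rw [hydef, ← pow_mul, mul_comm, pow_mul, hm']
      rw [h4, one_mul, inv_one, mul_one] at h3
      have h5 : z ^ r ^ n = 1 := by
        have := mul_right_cancel ((one_mul h).trans h3)
        exact this.symm
      obtain ⟨k, hk⟩ := hT ⟨z, hz3⟩
      have hk' : z ^ p ^ k = 1 := congrArg Subtype.val hk
      have h6 : z = 1 := by
        have hcop : (r ^ n).Coprime (p ^ k) :=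
          Nat.Coprime.pow _ _ ((Nat.coprime_primes hr.out hp.out).2 (Ne.symm hpr))
        exact orderOf_eq_one_iff.1 (Nat.eq_one_of_dvd_coprimes hcop (orderOf_dvd_of_pow_eq_one h5)
          (orderOf_dvd_of_pow_eq_one hk'))
      rw [hz, mul_inv_eq_one, mul_inv_eq_iff_eq_mul] at h6
      exact h6
  have hcop : (r ^ n).Coprime (p ^ m) :=
    Nat.Coprime.pow _ _ ((Nat.coprime_primes hr.out hp.out).2 (Ne.symm hpr))
  have hord : orderOf c ∣ p ^ m := orderOf_dvd_of_pow_eq_one hy
  obtain ⟨k, hk⟩ := exists_pow_eq_self_of_coprime (hcop.coprime_dvd_right hord)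
  rw [← hk]
  exact pow_mem h1 k

/-- **Normality of the lower K-infinity subgroup.** -/
theorem induced_normal {G : Type u} [Group G] [Finite G] {p r : ℕ} [hp : Fact p.Prime] [hr : Fact r.Prime]
    (hp3 : 3 < p) (hpr : p ≠ r) (A : Subgroup (MulAut G)) (hA : IsPGroup r A) (hrG : ¬ r ∣ Nat.card G)
    (hCG : centralizer (pCore p G : Set G) ≤ pCore p G) (hno : ¬ Pack p r) (P : Subgroup G)
    (hP : ∀ x, x ∈ P ↔ ∀ S : Sylow p G, (∀ a ∈ A, ∀ s ∈ S, a s ∈ S) → x ∈ S) :
    (inducedFunctor kInfLower P).Normal := by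
  classical
  let Γ := G ⋊[A.subtype] A
  let i : G →* Γ := SemidirectProduct.inl
  let j : A →* Γ := SemidirectProduct.inr
  have hi : Function.Injective i := SemidirectProduct.inl_injective
  let H : Subgroup Γ := i.range
  let R : Subgroup Γ := j.range
  have hHker : H = (SemidirectProduct.rightHom : Γ →* A).ker := SemidirectProduct.range_inl_eq_ker_rightHom
  have hHn : H.Normal := by rw [hHker]; infer_instance
  have hfΓ : Finite Γ := Finite.of_equiv _ (SemidirectProduct.equivProd (φ := A.subtype)).symm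
  have hHR : H ⊔ R = ⊤ := by
    rw [eq_top_iff]
    intro x _
    rw [← SemidirectProduct.inl_left_mul_inr_right x]
    exact mul_mem (mem_sup_left ⟨_, rfl⟩) (mem_sup_right ⟨_, rfl⟩)
  have hRp : IsPGroup r R := by
    rintro ⟨_, a, rfl⟩
    obtain ⟨n, hn⟩ := hA a
    refine ⟨n, Subtype.ext ?_⟩
    change j a ^ r ^ n = 1
    rw [← map_pow, hn, map_one]
  have hHcard : Nat.card H = Nat.card G :=
    (Nat.card_congr (MonoidHom.ofInjective hi).toEquiv).symm
  have hrH : ¬ r ∣ Nat.card H := by rw [hHcard]; exact hrG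
  have hn : ∀ a ∈ R, ∀ t ∈ H, a * t * a⁻¹ ∈ H := fun a _ t ht => hHn.conj_mem t ht a
  have hconj : ∀ (a : A) (x : G), j a * i x * (j a)⁻¹ = i ((a : MulAut G) x) := by
    intro a x
    have := SemidirectProduct.inl_aut (φ := A.subtype) a x
    rw [map_inv] at this
    exact this.symm
  have hleft : ∀ x : Γ, ∃ (y : G) (a : A), x = i y * j a := fun x =>
    ⟨x.left, x.right, (SemidirectProduct.inl_left_mul_inr_right x).symm⟩
  -- `O_p`
  have hpow : ∀ c : Γ, ∃ n : ℕ, c ^ r ^ n ∈ H := by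
    intro c
    obtain ⟨n, hn⟩ := hA (SemidirectProduct.rightHom c)
    refine ⟨n, ?_⟩
    rw [hHker, MonoidHom.mem_ker, map_pow, hn]
  have hTn : (pCore p Γ).Normal := Cfsg.Agent.Lib.Cores.pCore_normal p
  have hTp : IsPGroup p (pCore p Γ) := Cfsg.Agent.Lib.Cores.pCore_isPGroup p
  have hTH : pCore p Γ ≤ H := by
    intro x hx
    obtain ⟨n, hn⟩ := hpow x
    obtain ⟨m, hm⟩ := hTp ⟨x, hx⟩
    have hm' : x ^ p ^ m = 1 := congrArg Subtype.val hm
    have hcop : (r ^ n).Coprime (p ^ m) :=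
      Nat.Coprime.pow _ _ ((Nat.coprime_primes hr.out hp.out).2 (Ne.symm hpr))
    obtain ⟨k, hk⟩ := exists_pow_eq_self_of_coprime (hcop.coprime_dvd_right (orderOf_dvd_of_pow_eq_one hm'))
    rw [← hk]
    exact pow_mem hn k
  have hTcomap : (pCore p Γ).comap i ≤ pCore p G :=
    Cfsg.Agent.Lib.Cores.le_pCore (hTn.comap i) (hTp.comap_of_injective i hi)
  have hTmap : (pCore p G).map i ≤ pCore p Γ := by
    apply Cfsg.Agent.Lib.Cores.le_pCore
    · refine ⟨?_⟩
      rintro _ ⟨t, ht, rfl⟩ x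
      obtain ⟨y, a, rfl⟩ := hleft x
      have e : i y * j a * i t * (i y * j a)⁻¹ = i (y * ((a : MulAut G) t) * y⁻¹) := by
        rw [map_mul, map_mul, map_inv, ← hconj, mul_inv_rev]
        simp only [mul_assoc]
      rw [e]
      have h1 := Cfsg.Agent.Lib.Cores.pCore_characteristic (G := G) p
      have h2 : (a : MulAut G) t ∈ pCore p G := by
        have h3 := (Subgroup.characteristic_iff_map_eq.1 h1) (a : MulAut G)
        rw [← h3]
        exact ⟨t, ht, rfl⟩
      exact ⟨_, (Cfsg.Agent.Lib.Cores.pCore_normal p).conj_mem _ h2 y, rfl⟩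
    · exact (Cfsg.Agent.Lib.Cores.pCore_isPGroup p).map i
  have hCΓ : centralizer (pCore p Γ : Set Γ) ≤ pCore p Γ := by
    refine centralizer_le_of hpr hTp (H := H) ?_ hpow ?_
    · rintro _ ⟨⟨x, rfl⟩, hx⟩
      apply hTmap
      refine ⟨x, hCG ?_, rfl⟩
      rw [mem_centralizer_iff]
      intro t ht
      apply hi
      rw [map_mul, map_mul]
      exact mem_centralizer_iff.1 hx (i t) (hTmap ⟨t, ht, rfl⟩)
    · rintro y ⟨n, hn⟩ hy
      obtain ⟨x, a, rfl⟩ := hleft y
      have h1 : ∀ h : G, (a : MulAut G) h = x⁻¹ * h * x := by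
        intro h
        apply hi
        have h2 := hy (i h) ⟨h, rfl⟩
        have h3 : i x * (j a * i h * (j a)⁻¹) * j a = i h * i x * j a := by
          rw [← mul_assoc] at h2
          rw [← h2]
          simp only [mul_assoc, inv_mul_cancel, mul_one]
        rw [hconj] at h3
        have h4 := mul_right_cancel h3
        rw [map_mul, map_mul, map_inv, mul_assoc, ← h4, inv_mul_cancel_left]
      have h2 : (a : MulAut G) = MulAut.conj x⁻¹ := by
        ext h
        rw [h1, MulAut.conj_apply, inv_inv]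
      have h3 : a = 1 := by
        have h4 : orderOf (a : MulAut G) ∣ Nat.card G := by
          rw [h2]
          exact (orderOf_map_dvd MulAut.conj x⁻¹).trans (orderOf_dvd_natCard _)
        obtain ⟨m, hm⟩ := hA a
        have h5 : orderOf (a : MulAut G) ∣ r ^ m :=
          orderOf_dvd_of_pow_eq_one (congrArg Subtype.val hm)
        have hcop : (Nat.card G).Coprime (r ^ m) :=
          Nat.Coprime.pow_right _ ((Nat.Prime.coprime_iff_not_dvd hr.out).2 hrG).symm
        have h6 := orderOf_eq_one_iff.1 (Nat.eq_one_of_dvd_coprimes hcop h4 h5)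
        exact Subtype.ext h6
      rw [h3, map_one, mul_one] at hn ⊢
      have h4 : x ^ r ^ n = 1 := by
        apply hi
        rw [map_pow, hn, map_one]
      have hcop : (Nat.card G).Coprime (r ^ n) :=
        Nat.Coprime.pow_right _ ((Nat.Prime.coprime_iff_not_dvd hr.out).2 hrG).symm
      have h5 := orderOf_eq_one_iff.1 (Nat.eq_one_of_dvd_coprimes hcop (orderOf_dvd_natCard x)
        (orderOf_dvd_of_pow_eq_one h4))
      rw [h5, map_one]
  -- `P`
  have hTS : pCore p Γ ≤ P.map i := by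
    intro x hx
    obtain ⟨x, rfl⟩ := hTH hx
    refine ⟨x, ?_, rfl⟩
    change x ∈ P
    rw [hP]
    intro S _
    exact Cfsg.Agent.Lib.Cores.pCore_le_sylow S (hTcomap hx)
  have hInAll : ∀ g ∈ P.map i, InAll p R H g := by
    rintro _ ⟨x, hx, rfl⟩
    refine InAll.of_sylow hRp hrH ?_
    rintro S ⟨Q, rfl⟩ hinv
    have hle : (Q : Subgroup H).map H.subtype ≤ H := map_subtype_le _
    have h1 : ¬ p ∣ (((Q : Subgroup H).map H.subtype).comap i).index := by
      rw [index_comap]
      exact (not_dvd_relIndex_sylow ⟨Q, rfl⟩).2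
    have h2 : IsPGroup p (((Q : Subgroup H).map H.subtype).comap i) :=
      (Q.isPGroup'.map H.subtype).comap_of_injective i hi
    have h3 := (hP x).1 hx (h2.toSylow h1) (by
      intro a ha s hs
      change i (a s) ∈ (Q : Subgroup H).map H.subtype
      have h4 := hinv (j ⟨a, ha⟩) ⟨_, rfl⟩ (i s) hs
      rw [hconj] at h4
      exact h4)
    exact h3
  have hmain : (inducedFunctor kInfLower (P.map i)).Normal := by
    by_contra hcon
    obtain ⟨C, hCT, hCn, -, -, hC2, hTC, -, hA5⟩ := exists_critical (pCore p Γ) hTp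
    obtain ⟨g, hgS, hgT, -, -, h4⟩ := exists_cubic hTS hCT hC2 hTC hA5 (Or.inl hcon)
    obtain ⟨U, V, hUV, hUC, hq, hn'⟩ := h4 hCΓ
    exact hno (chief_case hp3 hRp hrH hn hHR hUV (hTp.to_le (hUC.trans hCT)) (hInAll g hgS) hq hn')
  rw [← inducedLower_map i hi P] at hmain
  have h1 := hmain.comap i
  rwa [comap_map_eq_self_of_injective hi] at h1

/-- **S1930 modulo the simple factors.** -/
theorem top {X : Type u} [Group X] [Finite X] (G R : Subgroup X) (r : ℕ) [hr : Fact r.Prime] (hR : IsPGroup r ↥R)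
    (hcop : (Nat.card ↥G).Coprime r) (hnorm : R ≤ Subgroup.normalizer (G : Set X)) (hG : G ≠ ⊥) (p : ℕ)
    [hp' : Fact p.Prime] (hp : 3 < p) (hCG : centralizer (pCore p G : Set G) ≤ pCore p G) (hno : ¬ Pack p r)
    (P : Subgroup X) (hP : P = ⨅ S : {S : Sylow p ↥G // ∀ a ∈ R, ((S : Subgroup ↥G).map G.subtype).map
      (MulAut.conj a).toMonoidHom = (S : Subgroup ↥G).map G.subtype}, ((S : Sylow p ↥G) : Subgroup ↥G).map G.subtype) :
    ∃ C : Subgroup ↥P, C.Characteristic ∧ C ≠ ⊥ ∧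
      G ≤ Subgroup.normalizer ((C.map P.subtype : Subgroup X) : Set X) := by
  classical
  have hrG : ¬ r ∣ Nat.card G := (Nat.Prime.coprime_iff_not_dvd hr.out).1 hcop.symm
  have hcore : pCore p G ≠ ⊥ := by
    intro h1
    rw [h1] at hCG
    apply hG
    rw [eq_bot_iff]
    intro x hx
    have h2 : (⟨x, hx⟩ : G) ∈ (⊥ : Subgroup G) := hCG (by
      rw [mem_centralizer_iff]
      intro y hy
      have h3 : y = 1 := hy
      rw [h3, one_mul, mul_one])
    rw [mem_bot] at h2 ⊢
    exact congrArg Subtype.val h2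
  have hTp : IsPGroup p (pCore p G) := Cfsg.Agent.Lib.Cores.pCore_isPGroup p
  have hpr : p ≠ r := by
    rintro rfl
    apply hcore
    by_contra hnb
    have hnt : Nontrivial (pCore p G) := (Subgroup.nontrivial_iff_ne_bot _).2 hnb
    obtain ⟨n, hn0, hn⟩ := (IsPGroup.nontrivial_iff_card hTp).mp hnt
    exact hrG ((dvd_pow_self p hn0.ne').trans (hn ▸ card_subgroup_dvd_card (pCore p G)))
  let φ : R →* MulAut G := G.normalizerMonoidHom.comp (inclusion hnorm)
  have hφ : ∀ (a : R) (x : G), ((φ a x : G) : X) = (a : X) * x * (a : X)⁻¹ := fun _ _ => rfl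
  let A : Subgroup (MulAut G) := φ.range
  have hA : IsPGroup r A := by
    rintro ⟨_, a, rfl⟩
    obtain ⟨n, hn⟩ := hR a
    refine ⟨n, Subtype.ext ?_⟩
    change φ a ^ r ^ n = 1
    rw [← map_pow, hn, map_one]
  -- the invariant Sylow subgroups
  have hinv : ∀ S : Sylow p G, (∀ a ∈ R, ((S : Subgroup ↥G).map G.subtype).map
      (MulAut.conj a).toMonoidHom = (S : Subgroup ↥G).map G.subtype) ↔ (∀ a ∈ A, ∀ s ∈ S, a s ∈ S) := by
    intro S
    constructor
    · rintro h _ ⟨a, rfl⟩ s hs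
      have h1 : (a : X) * s * (a : X)⁻¹ ∈ ((S : Subgroup ↥G).map G.subtype).map
          (MulAut.conj (a : X)).toMonoidHom := ⟨s, ⟨s, hs, rfl⟩, rfl⟩
      rw [h a a.2] at h1
      obtain ⟨s', hs', h2⟩ := h1
      have h3 : s' = φ a s := Subtype.ext h2
      rw [← h3]
      exact hs'
    · intro h a ha
      refine eq_of_le_of_card_ge ?_ (le_of_eq (card_map_of_injective (MulAut.conj a).injective).symm)
      rintro _ ⟨_, ⟨s, hs, rfl⟩, rfl⟩
      exact ⟨φ ⟨a, ha⟩ s, h _ ⟨⟨a, ha⟩, rfl⟩ s hs, rfl⟩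
  let P₀ : Subgroup G := ⨅ S : {S : Sylow p ↥G // ∀ a ∈ R, ((S : Subgroup ↥G).map G.subtype).map
      (MulAut.conj a).toMonoidHom = (S : Subgroup ↥G).map G.subtype}, ((S : Sylow p ↥G) : Subgroup ↥G)
  have hP₀ : ∀ x, x ∈ P₀ ↔ ∀ S : Sylow p G, (∀ a ∈ A, ∀ s ∈ S, a s ∈ S) → x ∈ S := by
    intro x
    rw [mem_iInf]
    constructor
    · intro h S hS
      exact h ⟨S, (hinv S).2 hS⟩
    · rintro h ⟨S, hS⟩
      exact h S ((hinv S).1 hS)
  have hne : Nonempty {S : Sylow p ↥G // ∀ a ∈ R, ((S : Subgroup ↥G).map G.subtype).map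
      (MulAut.conj a).toMonoidHom = (S : Subgroup ↥G).map G.subtype} := by
    have hact : ∀ b ∈ R, ∀ u ∈ G, b * u * b⁻¹ ∈ G := fun b hb u hu => (mem_normalizer_iff.1 (hnorm hb) u).1 hu
    obtain ⟨_, ⟨T, rfl⟩, hT⟩ := Lib.PGroupCoprimeAction.exists_invariant_sylow hR hrG hact p
    refine ⟨T, (hinv T).2 ?_⟩
    rintro _ ⟨a, rfl⟩ s hs
    obtain ⟨s', hs', h2⟩ := hT a a.2 s ⟨s, hs, rfl⟩
    have h3 : s' = φ a s := Subtype.ext h2
    rw [← h3]
    exact hs'
  have hPmap : P = P₀.map G.subtype := by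
    rw [hP, Subgroup.map_iInf _ G.subtype_injective]
  have hPle : P ≤ G := by rw [hPmap]; exact map_subtype_le _
  have hnormal := induced_normal hp hpr A hA hrG hCG hno P₀ hP₀
  have hPp : IsPGroup p P := by
    rw [hPmap]
    obtain ⟨S, hS⟩ := hne
    have h1 : P₀ ≤ (S : Subgroup G) := iInf_le (fun S : {S : Sylow p ↥G // ∀ a ∈ R, ((S : Subgroup ↥G).map
      G.subtype).map (MulAut.conj a).toMonoidHom = (S : Subgroup ↥G).map G.subtype} =>
        ((S : Sylow p ↥G) : Subgroup ↥G)) ⟨S, hS⟩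
    exact (S.isPGroup'.to_le h1).map _
  have hPne : P ≠ ⊥ := by
    intro h1
    apply hcore
    rw [eq_bot_iff]
    intro x hx
    have h2 : (x : X) ∈ P := by
      rw [hPmap]
      refine ⟨x, ?_, rfl⟩
      change x ∈ P₀
      rw [hP₀]
      intro S _
      exact Cfsg.Agent.Lib.Cores.pCore_le_sylow S hx
    rw [h1, mem_bot] at h2
    rw [mem_bot]
    exact Subtype.ext h2
  refine ⟨kInfLower P, ?_, ?_, ?_⟩
  · rw [Subgroup.characteristic_iff_map_eq]
    intro ψ
    exact kInfLower_map_equiv ψ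
  · intro h1
    have hnt : Nontrivial P := (Subgroup.nontrivial_iff_ne_bot P).2 hPne
    have h2 := center_le_kInfLower hPp
    rw [h1, le_bot_iff] at h2
    have := hPp.center_nontrivial
    exact (nontrivial_iff_ne_bot (center P)).1 inferInstance h2
  · have h1 : (kInfLower P).map P.subtype = (inducedFunctor kInfLower P₀).map G.subtype := by
      rw [inducedLower_map G.subtype G.subtype_injective, ← hPmap]
      rfl
    rw [h1]
    intro x hx
    rw [mem_normalizer_iff]
    intro y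
    constructor
    · rintro ⟨z, hz, rfl⟩
      exact ⟨_, hnormal.conj_mem z hz ⟨x, hx⟩, rfl⟩
    · rintro ⟨z, hz, hzy⟩
      refine ⟨_, hnormal.conj_mem z hz ⟨x, hx⟩⁻¹, ?_⟩
      change x⁻¹ * (z : X) * x⁻¹⁻¹ = y
      have h2 : (z : X) = x * y * x⁻¹ := hzy
      rw [h2]
      group

end Cfsg.Agent.H25.S30
end

-- part: H26/UFOrth
section
prune_inst 0x21104400392200000000051000000020200000900000000049e0014208014202804008002a10000210a400800004002003cc0000420000000a000000001c012000010000a0080000200010000080000000000000000000000000000000000000000000000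
set_option linter.all false
open scoped Cfsg.Agent.FastGrp

/-!
# `UF` for the orthogonal groups (helper26, for S1930)
-/

set_option autoImplicit false
set_option linter.unusedSectionVars false

namespace Cfsg.Agent.H26.UFOrth

open QuadraticMap Cfsg Cfsg.Agent.LieClassical.OrthCore Cfsg.Agent.LieClassical.OrthTrans
open Cfsg.Agent.ClassicalGeometry.OrthSemi Cfsg.Agent.ClassicalGeometry.OrthSemiCount
open Cfsg.Agent.ClassicalGeometry.OrthSemiForms Cfsg.Agent.LieClassical.OrthSimple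
  Cfsg.Agent.LieClassical.OrthForms
open Cfsg.Agent.H254 Cfsg.Agent.H254.Orth Cfsg.Agent.H531 Cfsg.Agent.Schreier.Basic Cfsg.Agent.H522.RealOrth
open Cfsg.Agent.ClassicalGeometry.OrthAut1 (P)
open Cfsg.Agent.UGT.U2.FOne.Orth (Four)
open Matrix (SpecialLinearGroup)
open Cfsg.Agent.H25.UFDef Cfsg.Agent.H26.UFix Cfsg.Agent.H26.UFLin Cfsg.Agent.ChevalleyStructure.SL2Hom

theorem uf_of_copIn {l : ℕ} {K : Type*} [Group K] {σ : MulAut K} (h : CopIn K σ) (x : K) (hx1 : x ≠ 1)
    (hl : ∃ k : ℕ, x ^ l ^ k = 1) (hfix : σ x = x) (hiso : Iso l x) : UF l K := by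
  intro A hA
  obtain ⟨g, hg⟩ := h A hA
  obtain ⟨k, hk⟩ := hl
  refine ⟨g⁻¹ x, fun h => hx1 ((map_eq_one_iff (g⁻¹ : MulAut K) (g⁻¹ : MulAut K).injective).1 h),
    ⟨k, by rw [← map_pow, hk, map_one]⟩, fun a ha => ?_, iso_equiv (g⁻¹ : MulAut K) hiso⟩
  have key : a (g⁻¹ x) = g⁻¹ ((g * a * g⁻¹) x) := by
    show a (g⁻¹ x) = g⁻¹ (g (a (g⁻¹ x)))
    rw [MulAut.inv_apply_self]
  rw [key]
  congr 1
  have h1 : MulAut.conj g a ∈ Subgroup.zpowers σ := hg ⟨a, ha, rfl⟩
  have h2 : Subgroup.zpowers σ ≤ MulAction.stabilizer (MulAut K) x := by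
    rw [Subgroup.zpowers_le]
    exact hfix
  exact h2 h1

section fam

variable {F : Type*} [Field F] [Finite F] {ι : Type} [Fintype ι] [DecidableEq ι] {Q : QuadraticForm F (ι → F)}
  {e₁ f₁ e₂ f₂ : ι → F}

theorem phi_up (h : Four Q e₁ f₁ e₂ f₂) (v : ι → F) :
    h.phi (up 1) v - v = polar Q f₂ v • e₁ - polar Q e₁ v • f₂ := by
  unfold Four.phi
  have h00 : (up (1 : F)).1 0 0 = 1 := rfl
  have h01 : (up (1 : F)).1 0 1 = 1 := rfl
  have h10 : (up (1 : F)).1 1 0 = 0 := rfl
  have h11 : (up (1 : F)).1 1 1 = 1 := rfl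
  rw [h00, h01, h10, h11]
  module

theorem sq_up (h : Four Q e₁ f₁ e₂ f₂) :
    (((h.rho (up 1) : (ι → F) ≃ₗ[F] (ι → F)) : Module.End F (ι → F)) - 1) ^ 2 = 0 := by
  apply LinearMap.ext
  intro v
  obtain ⟨p1, p2, p3, p4, p5, p6, p7, p8⟩ := h.pols
  have key : ∀ w : ι → F, (((h.rho (up 1) : (ι → F) ≃ₗ[F] (ι → F)) : Module.End F (ι → F)) - 1) w =
      polar Q f₂ w • e₁ - polar Q e₁ w • f₂ := fun w => phi_up h w
  rw [pow_two, Module.End.mul_apply, key, key]
  have h1 : polar Q f₂ e₁ = 0 := by rw [polar_comm]; exact h.ef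
  simp only [polar_sub_right, polar_smul_right, h1, h.ef, p1, p4, smul_zero, sub_zero, zero_smul,
    LinearMap.zero_apply]

/-- **The criterion.** -/
theorem crit {l : ℕ} [hl : Fact l.Prime] (hl2 : l ≠ 2) [CharP F l] (hG : Good Q) (h : Four Q e₁ f₁ e₂ f₂)
    {σ : F ≃+* F} {M : Equiv.Perm (ι → F)} (hM : Fx Q e₁ f₁ e₂ f₂ σ M)
    (hco : CopIn (POmega F ⇑Q) (ind hG hM.gam)) : UF l (POmega F ⇑Q) := by
  have hfinL : Finite ((ι → F) ≃ₗ[F] (ι → F)) :=
    Finite.of_injective (fun f : (ι → F) ≃ₗ[F] (ι → F) => (f : (ι → F) → (ι → F))) DFunLike.coe_injective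
  have hfinE : Finite ↥(E Q) := inferInstance
  obtain ⟨h5, h6⟩ := iso_of_quad hl2 (G := ↥(E Q)) (V := ι → F)
    ({ toFun := fun g => ((g : (ι → F) ≃ₗ[F] (ι → F)) : Module.End F (ι → F)), map_one' := rfl,
        map_mul' := fun _ _ => rfl } : ↥(E Q) →* Module.End F (ι → F))
    (fun a b hab => Subtype.ext (LinearEquiv.toLinearMap_injective hab))
    (t := h.rhoE (up 1)) (sq_up h)
  refine uf_of_copIn hco (jj hG h (up 1)) ?_ ⟨1, ?_⟩ ?_ ?_
  · intro h1
    have h2 := jj_injective hG h (h1.trans (map_one _).symm)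
    have h3 := congrFun (congrFun (congrArg Subtype.val h2) 0) 1
    have h4 : (1 : F) = 0 := h3
    exact one_ne_zero h4
  · rw [pow_one]
    have h7 : jj hG h (up 1) = (pomegaEquiv hG).symm (QuotientGroup.mk' _ (h.rhoE (up 1))) := rfl
    rw [h7, ← map_pow, ← map_pow, h5, map_one, map_one]
  · rw [ind_jj, map_up, map_one]
  · refine iso_equiv (pomegaEquiv hG).symm (iso_map (QuotientGroup.mk' _) (QuotientGroup.mk'_surjective _) ?_ h6)
    rw [QuotientGroup.ker_mk']

end fam

/-- The criterion with all the numerical data. -/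
theorem uf_of {l : ℕ} [hl : Fact l.Prime] (hl2 : l ≠ 2) {F : Type*} [Field F] [Finite F] [CharP F l] {ι : Type}
    [Fintype ι] [DecidableEq ι]
    {Q : QuadraticForm F (ι → F)} {e₁ f₁ e₂ f₂ : ι → F} {q : (ι → F) → F} (hq : ⇑Q = q) [Finite (POmega F q)]
    [IsSimpleGroup (POmega F q)] (hna : ¬ IsMulCommutative (POmega F q))
    (hs : Sch (POmega F q)) (hG : Good Q) (h : Four Q e₁ f₁ e₂ f₂) {σ : F ≃+* F} {M : Equiv.Perm (ι → F)}
    (hM : Fx Q e₁ f₁ e₂ f₂ σ M) (c f : ℕ) (hc0 : c ≠ 0) (hc : ∀ r : ℕ, r.Prime → r ∣ c → r ∣ Nat.card (POmega F q))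
    (hf : f ∣ orderOf σ) (hcard : Nat.card (MulAut (POmega F q)) ∣ c * f * Nat.card (POmega F q)) :
    UF l (POmega F q) := by
  subst hq
  exact crit hl2 hG h hM (CopIn.of_card hna hs _ c hc0 hc (hcard.trans
    (Nat.mul_dvd_mul_right (Nat.mul_dvd_mul_left _ (hf.trans (orderOf_ind hG hM.ss))) _)))

variable {F : Type*} [Field F] [Fintype F] {m : ℕ} {l : ℕ} [hl : Fact l.Prime] [CharP F l]

theorem odd (hl2 : l ≠ 2) (hm : 3 ≤ m) (hodd : Odd (Fintype.card F)) [Finite (Cfsg.POmega F (Cfsg.quadFormOdd m F))]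
    [IsSimpleGroup (Cfsg.POmega F (Cfsg.quadFormOdd m F))]
    (hna : ¬ IsMulCommutative (Cfsg.POmega F (Cfsg.quadFormOdd m F)))
    (h2 : 2 ∣ Nat.card (Cfsg.POmega F (Cfsg.quadFormOdd m F))) :
    UF l (Cfsg.POmega F (Cfsg.quadFormOdd m F)) := by
  obtain ⟨f, hp, hf⟩ := FiniteField.card F l
  have hpodd : Odd l := by
    rw [hf] at hodd
    exact (Nat.odd_pow_iff f.pos.ne').1 hodd
  have h20 : (2 : F) ≠ 0 := Cfsg.Agent.LieClassical.PomegaCard.odd_card_iff.1 hodd
  have hcard := S0816.result l f f.pos hf hpodd m hm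
  have hf' : Nat.card (F ≃+* F) = f := Lib.FieldAutCard.card_ringAut f.pos hf
  obtain ⟨ρ, hρ, -⟩ := exists_ringAut F
  obtain ⟨M, e₁, f₁, e₂, f₂, h4, hM⟩ := odd_fx h20 (m := m) (by omega) ρ
  refine uf_of hl2 (coe_oddForm m F) hna (Schreier.ClassPOmega.sch_odd hm h20)
    (good_odd (F := F) (m := m) (by omega) h20) h4 hM 2 f two_ne_zero ?_ (by rw [hρ, hf']) ?_
  · intro r hr hd
    rw [(Nat.prime_dvd_prime_iff_eq hr Nat.prime_two).1 hd]; exact h2
  · rw [hcard]

theorem plus (hl2 : l ≠ 2) (hm : 4 ≤ m) [Finite (Cfsg.POmega F (Cfsg.quadFormPlus m F))]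
    [IsSimpleGroup (Cfsg.POmega F (Cfsg.quadFormPlus m F))]
    (hna : ¬ IsMulCommutative (Cfsg.POmega F (Cfsg.quadFormPlus m F)))
    (h2 : 2 ∣ Nat.card (Cfsg.POmega F (Cfsg.quadFormPlus m F))) :
    UF l (Cfsg.POmega F (Cfsg.quadFormPlus m F)) := by
  obtain ⟨f, hp, hf⟩ := FiniteField.card F l
  have hcard := S0817.result l f f.pos hf m hm
  have hf' : Nat.card (F ≃+* F) = f := Lib.FieldAutCard.card_ringAut f.pos hf
  obtain ⟨ρ, hρ, -⟩ := exists_ringAut F
  obtain ⟨M, e₁, f₁, e₂, f₂, h4, hM⟩ := plus_fx (F := F) (m := m) (by omega) ρ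
  refine uf_of hl2 (coe_plusForm m F) hna (Schreier.ClassPOmega.sch_plus hm)
    (good_plus (F := F) (m := m) (by omega)) h4 hM (3 * 8) f (by norm_num) ?_ (by rw [hρ, hf']) ?_
  · intro r hr hd
    rcases (hr.dvd_mul).1 hd with h | h
    · rw [(Nat.prime_dvd_prime_iff_eq hr Nat.prime_three).1 h]; exact three_dvd_plus hm
    · have h4 : r ∣ 2 ^ 3 := h
      rw [(Nat.prime_dvd_prime_iff_eq hr Nat.prime_two).1 (hr.dvd_of_dvd_pow h4)]; exact h2
  · rw [hcard]
    have h6 : (if m = 4 then 3 else 1) ∣ 3 := by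
      split_ifs
      · exact dvd_rfl
      · exact one_dvd _
    have h7 : (if l = 2 then 2 else (if Even (m * (l ^ (f : ℕ) - 1) / 2) then 8 else 4)) ∣ 8 := by
      split_ifs
      · exact ⟨4, by norm_num⟩
      · exact dvd_rfl
      · exact ⟨2, by norm_num⟩
    exact Nat.mul_dvd_mul_right (Nat.mul_dvd_mul (Nat.mul_dvd_mul h6 h7) dvd_rfl) _

theorem minus (hl2 : l ≠ 2) (hm : 4 ≤ m) (a b : F)
    (hab : ∀ z₁ z₂ : F, z₁ ^ 2 + a * z₁ * z₂ + b * z₂ ^ 2 = 0 → z₁ = 0 ∧ z₂ = 0)
    [Finite (Cfsg.POmega F (Cfsg.quadFormMinus (m - 1) F a b))]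
    [IsSimpleGroup (Cfsg.POmega F (Cfsg.quadFormMinus (m - 1) F a b))]
    (hna : ¬ IsMulCommutative (Cfsg.POmega F (Cfsg.quadFormMinus (m - 1) F a b)))
    (h2 : 2 ∣ Nat.card (Cfsg.POmega F (Cfsg.quadFormMinus (m - 1) F a b))) :
    UF l (Cfsg.POmega F (Cfsg.quadFormMinus (m - 1) F a b)) := by
  obtain ⟨f, hp, hf⟩ := FiniteField.card F l
  have hcard := S0818.result l f f.pos hf m hm a b hab
  have hf' : Nat.card (F ≃+* F) = f := Lib.FieldAutCard.card_ringAut f.pos hf
  obtain ⟨ρ, hρ, -⟩ := exists_ringAut F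
  obtain ⟨M, e₁, f₁, e₂, f₂, h4, hM⟩ := minus_fx (F := F) (m := m - 1) (by omega) a b hab ρ
  refine uf_of hl2 (coe_minusForm (m - 1) F a b) hna (Schreier.ClassPOmega.sch_minus hm a b hab)
    (good_minus (F := F) (m := m - 1) (by omega) a b hab) h4 hM 8 f (by norm_num) ?_ (by rw [hρ, hf']) ?_
  · intro r hr hd
    have h4 : r ∣ 2 ^ 3 := hd
    rw [(Nat.prime_dvd_prime_iff_eq hr Nat.prime_two).1 (hr.dvd_of_dvd_pow h4)]; exact h2
  · rw [hcard]
    have h7 : (if l = 2 then 2 else (if Even (m * (l ^ (f : ℕ) - 1) / 2) then 4 else 8)) ∣ 8 := by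
      split_ifs
      · exact ⟨4, by norm_num⟩
      · exact ⟨2, by norm_num⟩
      · exact dvd_rfl
    exact Nat.mul_dvd_mul_right (Nat.mul_dvd_mul h7 dvd_rfl) _

end Cfsg.Agent.H26.UFOrth
end

-- part: H26/UFRows
section
set_option linter.all false
open scoped Cfsg.Agent.FastGrp

/-!
# `UF` for the simple groups of Lie type in odd characteristic (helper26, for S1930)

`uf` : in a simple group `K` of Lie type in odd characteristic `l` (not a Ree group `²G₂`), every group of automorphisms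
of order prime to `|K|` fixes an `l`-element `u ≠ 1` which centralises every `p`-subgroup, `p ≠ 2, l`, normalised by `u`.
-/

set_option autoImplicit false

namespace Cfsg.Agent.H26.UFRows

open Cfsg Cfsg.Agent.H25.UFDef Cfsg.Agent.H26.UFix

universe u v

/-- Transport from a model. -/
theorem of_model {l : ℕ} {M : Type v} [Group M]
    (h : Finite M → IsSimpleGroup M → ¬ IsMulCommutative M → 2 ∣ Nat.card M → UF l M)
    (K : Type u) [Group K] [Finite K] [IsSimpleGroup K] (hK : ¬ IsMulCommutative K) (h2 : 2 ∣ Nat.card K)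
    (e : Nonempty (K ≃* M)) : UF l K := by
  obtain ⟨e⟩ := e
  have h1 : Finite M := Finite.of_equiv K e.toEquiv
  have hsm : IsSimpleGroup M := e.symm.isSimpleGroup
  have hna : ¬ IsMulCommutative M := by
    intro hc
    apply hK
    refine ⟨⟨fun a b => e.injective ?_⟩⟩
    rw [map_mul, map_mul]
    exact hc.is_comm.comm _ _
  exact uf_of_equiv e.symm (h h1 hsm hna (by rw [← Nat.card_congr e.toEquiv]; exact h2))

/-- **`UF` for the simple groups of Lie type in odd characteristic.** -/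
theorem uf {l : ℕ} (hl : l.Prime) (hl2 : l ≠ 2) {K : Type u} [Group K] [Finite K] [IsSimpleGroup K]
    (hna : ¬ IsMulCommutative K) (h2 : 2 ∣ Nat.card K) (hK : IsLieTypeChar l K)
    (hree : ¬ (l = 3 ∧ Lie.IsoRee K)) : UF l K := by
  have hlf : Fact l.Prime := ⟨hl⟩
  rcases hK with hk | hk | hk | hk | hk | hk | hk | hk | hk | hk | hk
  · obtain ⟨F, _, _, _, n, hn, h4, e⟩ := hk
    exact of_model (fun _ _ h1 h2 => UFLin.psl hl2 hn h4 h1 h2) K hna h2 e
  · obtain ⟨F, _, _, _, m, hm, h3, e⟩ := hk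
    exact of_model (fun _ _ h1 h2 => UFLin.psp hl2 hm h3 h1 h2) K hna h2 e
  · obtain ⟨F, _, _, _, n, q, hF, hn, h32, e⟩ := hk
    exact of_model (fun _ _ h1 h2 => UFLin.psu hl2 hF hn h32 h1 h2) K hna h2 e
  · obtain ⟨F, _, _, _, m, hm, hodd, e⟩ := hk
    exact of_model (fun _ _ h1 h2 => UFOrth.odd hl2 hm hodd h1 h2) K hna h2 e
  · obtain ⟨F, _, _, _, m, hm, e⟩ := hk
    exact of_model (fun _ _ h1 h2 => UFOrth.plus hl2 hm h1 h2) K hna h2 e
  · obtain ⟨F, _, _, _, m, a, b, hm, hab, e⟩ := hk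
    exact of_model (fun _ _ h1 h2 => UFOrth.minus hl2 hm a b hab h1 h2) K hna h2 e
  · obtain ⟨F, _, _, _, hk⟩ := hk
    rcases hk with ⟨h3, e⟩ | e | e | e | e
    · exact of_model (fun _ _ _ h2 => UFChev.chev hl2 UFChev.highG2 (H967.CopChev.row_g2 h3) h2) K hna h2 e
    · exact of_model (fun _ _ _ h2 => UFChev.chev hl2 UFChev.highF4 H967.CopChev.row_f4 h2) K hna h2 e
    · exact of_model (fun _ _ _ h2 => UFChev.chev hl2 UFChev.highE6 H967.CopChev.row_e6 h2) K hna h2 e
    · exact of_model (fun _ _ _ h2 => UFChev.chev hl2 UFChev.highE7 H967.CopChev.row_e7 h2) K hna h2 e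
    · exact of_model (fun _ _ _ h2 => UFChev.chev hl2 UFChev.highE8 H967.CopChev.row_e8 h2) K hna h2 e
  · obtain ⟨F, _, _, _, q, hq, hk⟩ := hk
    rcases hk with ⟨hF, e⟩ | ⟨hF, e⟩
    · exact of_model (fun _ _ _ h2 => UFChev.tw2e6 hl2 hq hF (Schreier.TwESix.sch hq hF) h2) K hna h2 e
    · exact of_model (fun _ _ _ _ => UFChev.d4 hl2 hq hF) K hna h2 e
  · exact absurd hk.1 hl2
  · exact absurd hk.1 hl2
  · exact absurd hk hree

end Cfsg.Agent.H26.UFRows
end
end
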